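import Groth.Agent.L26.JacRat.Curve
import Groth.Agent.L03.ShStab.RankOneSlope
import Groth.Agent.L22.ExtSh.GenRank
import Groth.Prelude.Def_Jac

/-!
# A coarse Jacobian is the fine one
-/

set_option autoImplicit false
set_option linter.style.haveILetI false
set_option linter.unusedSectionVars false
set_option backward.isDefEq.respectTransparency false
set_option backward.isDefEq.respectTransparency.types false

universe u

open CategoryTheory CategoryTheory.Limits AlgebraicGeometry MonoidalCategory CartesianMonoidalCategory MonObj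
open Groth.L25.HomScheme

noncomputable section

namespace Groth.Agent.L26.JacRat

open Groth.Agent.L26.PicRep Groth.Agent.L26.PicSm Groth.Agent.Elliptic
attribute [local instance] Groth.L08.Cube.clMonoid

variable {k : Type u} [Field k] {X : Scheme.{u}} {f : X ⟶ Spec (CommRingCat.of k)} [IsProper f]
  [SmoothOfRelativeDimension 1 f] [GeometricallyConnected f]

section Deg

attribute [local instance] Groth.Agent.L26.PicSm.curveOver

/-- The degree over a field is the degree function at the only point. -/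
theorem deg_eq_degU {K : Type u} [Field K] [IsAlgClosed K] (τ : Spec (CommRingCat.of K) ⟶ Spec (CommRingCat.of k))
    {L : (PicF.XT f (Over.mk τ)).Modules} {x : (PicF.Cl (PicF.XT f (Over.mk τ)))ˣ}
    (hL : PicF.IsInvertible L) (h : PicF.cl L = (x : PicF.Cl (PicF.XT f (Over.mk τ)))) (t : (Over.mk τ).left) :
    Curv2.deg K (PicF.XT f (Over.mk τ)) L 1 = degU f (Over.mk τ) x t := by
  haveI := curve_proper (f := f) τ
  haveI := curve_smooth (f := f) τ
  haveI := curve_integral (f := f) τ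
  have hd := (curve_dim (f := f) τ).le
  haveI := Groth.L21.RR.isNoetherian_of_proper (X := PicF.XT f (Over.mk τ)) K
  let q := PicF.XTproj f (Over.mk τ)
  letI : (q.fiber t).Over (Spec (CommRingCat.of ((Over.mk τ).left.residueField t))) :=
    ⟨q.fiberToSpecResidueField t⟩
  have key : ∀ M : (PicF.XT f (Over.mk τ)).Modules, Coh.IsCoh M →
      FGA.eulerCharLE ((Over.mk τ).left.residueField t) (q.fiber t)
        ((Scheme.Modules.pullback (q.fiberι t)).obj M) 1 = Curv2.euler K (PicF.XT f (Over.mk τ)) M := fun M hM => by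
    have h0 : Module.finrank ((Over.mk τ).left.residueField t)
        (Coh.HH (q.fiber t) ((Scheme.Modules.pullback (q.fiberι t)).obj M) 0) = _ :=
      fiberRank_eq_h (K := K) (Y := PicF.XT f (Over.mk τ)) hM 0 t
    have h1 : Module.finrank ((Over.mk τ).left.residueField t)
        (Coh.HH (q.fiber t) ((Scheme.Modules.pullback (q.fiberι t)).obj M) 1) = _ :=
      fiberRank_eq_h (K := K) (Y := PicF.XT f (Over.mk τ)) hM 1 t
    rw [Groth.L21.RR.euler_eq K hd (M := M), FGA.eulerCharLE, Finset.sum_range_succ, Finset.sum_range_one, h0, h1]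
    simp only [pow_zero, pow_one, _root_.one_mul, neg_mul]
    ring
  rw [degU_eq h, DegreeFun.deg, Curv2.deg, key L (Groth.L16.ProperFinite.isCoh_of_isInvertible hL),
    ← Groth.L17.Strat.eulerCharLE_iso (Groth.L29.LocFree.pullbackUnitIso (q.fiberι t)),
    key _ (Groth.L16.CohClosedPush.isCoh_structure (X := PicF.XT f (Over.mk τ))), Nat.cast_one, _root_.one_mul]

theorem ok_iff {T : Over (Spec (CommRingCat.of k))} {L : (PicF.XT f T).Modules}
    {x : (PicF.Cl (PicF.XT f T))ˣ} (hx : x ∈ invU _) (h : PicF.cl L = (x : PicF.Cl (PicF.XT f T))) :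
    (ModFun.PicDeg f 0).ok T L ↔ ∀ t, degU f T x t = 0 := by
  have hL : PicF.IsInvertible L := AbDualLib.isInvertible_of_isInvertibleCl (h ▸ hx.1)
  constructor
  · rintro ⟨-, hd⟩ t
    let Ω := AlgebraicClosure (T.left.residueField t)
    let pt : Spec (CommRingCat.of Ω) ⟶ T.left :=
      Spec.map (CommRingCat.ofHom (algebraMap (T.left.residueField t) Ω)) ≫ T.left.fromSpecResidueField t
    let a : Over.mk (pt ≫ T.hom) ⟶ T := Over.homMk pt rfl
    have e : Curv2.deg Ω (PicF.XT f (Over.mk (pt ≫ T.hom)))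
        ((Scheme.Modules.pullback (PicF.XTmap f a)).obj L) 1 = 0 := hd Ω pt
    rw [deg_eq_degU (f := f) (pt ≫ T.hom) (x := mp f a x) (Groth.L18.Ample.isInvertible_pullback _ hL)
      (show PicF.cl _ = PicF.pullCl (PicF.XTmap f a) (x : PicF.Cl (PicF.XT f T)) by rw [← h]; rfl)
      (IsLocalRing.closedPoint Ω), degU_mp a hx,
      show a.left (IsLocalRing.closedPoint Ω) = t by
        show pt _ = t
        rw [Scheme.Hom.comp_apply]
        exact Scheme.fromSpecResidueField_apply t _] at e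
    exact e
  · intro hd
    refine ⟨⟨trivial, Groth.L21.Bundle.locFree_one hL⟩, fun Ω _ _ pt => ?_⟩
    let a : Over.mk (pt ≫ T.hom) ⟶ T := Over.homMk pt rfl
    refine (deg_eq_degU (f := f) (pt ≫ T.hom) (x := mp f a x) (Groth.L18.Ample.isInvertible_pullback _ hL)
      (show PicF.cl _ = PicF.pullCl (PicF.XTmap f a) (x : PicF.Cl (PicF.XT f T)) by rw [← h]; rfl)
      (IsLocalRing.closedPoint Ω)).trans ?_
    rw [degU_mp a hx, hd]

theorem exists_unit_of_ok {T : Over (Spec (CommRingCat.of k))} {L : (PicF.XT f T).Modules}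
    (h : (ModFun.PicDeg f 0).ok T L) :
    ∃ x ∈ invU _, (x : PicF.Cl (PicF.XT f T)) = PicF.cl L ∧ ∀ t, degU f T x t = 0 := by
  obtain ⟨x, hx, hxL⟩ := exists_invU (c := PicF.cl L) ⟨L, rfl, Groth.L22.GenRank.isInvertible_of_rank_one h.1.2⟩
  exact ⟨x, hx, hxL, (ok_iff hx hxL.symm).1 h⟩

end Deg

variable {σ : Spec (CommRingCat.of k) ⟶ X} {hσ : σ ≫ f = 𝟙 _}

variable (σ hσ) in
/-- The class of the pulled back ideal of the section. -/
theorem val_uI_origin (T : Over (Spec (CommRingCat.of k))) :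
    (uI (origin T σ hσ) : PicF.Cl (PicF.XT f T)) = PicF.cl ((Scheme.Modules.pullback (pullback.fst f T.hom)).obj
      (ClSub.idealMod σ.ker)) := by
  haveI := isClosedImmersion_section (f := f) hσ
  have pb : IsPullback (pullback.fst f T.hom) (PicF.XTproj f T) f T.hom := IsPullback.of_hasPullback _ _
  have hc : σ.ker.comap (pullback.fst f T.hom) = (sec (origin T σ hσ)).ker :=
    Groth.L02.Hilb.ker_section_comap pb σ hσ (sec (origin T σ hσ)) (sec_proj _) (pullback.lift_fst _ _ _)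
  obtain ⟨α, -, hα, -⟩ := Groth.L07.PrinParts.exists_idealMap (pullback.fst f T.hom) σ.ker _ hc.symm
  haveI := hα
  haveI := Groth.L02.Canon.DescInvertible.isIso_of_epi_invertible α
    (Groth.L18.Ample.isInvertible_pullback _ (isInvertible_ker (f := f) hσ)) (isInvertible_secIdeal _)
  exact (Groth.Agent.AbDualLib.cl_congr (asIso α)).symm

/-- The element of an admissible family. -/
theorem exists_el {T : Over (Spec (CommRingCat.of k))} {L : (PicF.XT f T).Modules}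
    (h : (ModFun.PicDeg f 0).ok T L) : ∃ y : (deg0Fam f σ hσ).obj T,
      ∀ x ∈ invU (PicF.XT f T), (x : PicF.Cl (PicF.XT f T)) = PicF.cl L → y.1 = nrm σ hσ T x := by
  obtain ⟨x, hx, hxL, hd⟩ := exists_unit_of_ok h
  exact ⟨⟨nrm σ hσ T x, nrm_mem σ hσ hx, fun t => (degU_nrm σ hσ hx t).trans (hd t)⟩,
    fun x' _ h' => congrArg (nrm σ hσ T) (Units.ext (hxL.trans h'.symm))⟩

variable {J₀ : Over (Spec (CommRingCat.of k))} {ξ : (deg0Fam f σ hσ).obj J₀}
  (hJ₀ : (deg0Fam f σ hσ).IsRep J₀ ξ)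

/-- The classifying morphism of an admissible family. -/
def cls {T : Over (Spec (CommRingCat.of k))} (L : (PicF.XT f T).Modules) (h : (ModFun.PicDeg f 0).ok T L) :
    T ⟶ J₀ :=
  (hJ₀ T (exists_el (σ := σ) (hσ := hσ) h).choose).exists.choose

theorem valAt_cls {T : Over (Spec (CommRingCat.of k))} {L : (PicF.XT f T).Modules}
    (h : (ModFun.PicDeg f 0).ok T L) {x : (PicF.Cl (PicF.XT f T))ˣ} (hx : x ∈ invU _)
    (hxL : (x : PicF.Cl (PicF.XT f T)) = PicF.cl L) : valAt ξ (cls hJ₀ L h) = nrm σ hσ T x :=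
  (congrArg Subtype.val (hJ₀ T (exists_el (σ := σ) (hσ := hσ) h).choose).exists.choose_spec).trans
    ((exists_el (σ := σ) (hσ := hσ) h).choose_spec x hx hxL)

theorem mem_of_cl {T : Over (Spec (CommRingCat.of k))} {x : (PicF.Cl (PicF.XT f T))ˣ}
    {L : (PicF.XT f T).Modules} (hL : PicF.IsInvertible L) (h : (x : PicF.Cl (PicF.XT f T)) = PicF.cl L) :
    x ∈ invU _ := mem_invU ⟨L, h.symm, hL⟩

/-- The classifying morphisms form a morphism of moduli problems. -/
def clsHom : (ModFun.PicDeg f 0).Hom ⊤ J₀ where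
  app T L _ h := cls hJ₀ L h
  natural {T T'} q L _ _ h h' := valAt_inj hJ₀ (by
    obtain ⟨x, hx, hxL, -⟩ := exists_unit_of_ok h
    have hq : (mp f q x : PicF.Cl (PicF.XT f T')) = PicF.cl ((ModFun.PicDeg f 0).pull q L) :=
      congrArg (PicF.pullCl _) hxL
    rw [valAt_comp, valAt_cls hJ₀ h hx hxL, mp_nrm, valAt_cls hJ₀ h' (map_mem_invU _ hx) hq])
  resp {T} L L' _ h h' hr := valAt_inj hJ₀ (by
    obtain ⟨M, hM, ⟨e⟩⟩ := hr
    obtain ⟨b, hb, hbM⟩ := exists_invU (c := PicF.cl M) ⟨M, rfl, hM⟩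
    obtain ⟨x, hx, hxL, -⟩ := exists_unit_of_ok h
    have hx' : ((x * pb f T b : (PicF.Cl (PicF.XT f T))ˣ) : PicF.Cl (PicF.XT f T)) = PicF.cl L' := by
      rw [Units.val_mul, hxL, AbDualLib.cl_congr e]
      exact congrArg (PicF.cl L * PicF.pullCl _ ·) hbM
    rw [valAt_cls hJ₀ h hx hxL, valAt_cls hJ₀ h' ((invU _).mul_mem hx (map_mem_invU _ hb)) hx', map_mul,
      nrm_pb, _root_.mul_one])

include hJ₀ in
/-- A coarse Jacobian is the representing object, compatibly with products and Abel maps. -/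
theorem exists_iso_coarse {J : Over (Spec (CommRingCat.of k))} [GrpObj J]
    {ψ : (ModFun.PicDeg f 0).Hom ⊤ J} (hJ : Jac.IsJacobian f ⊤ J ψ) :
    letI := grpObjRep hJ₀
    ∃ (m : J₀ ⟶ J) (n : J ⟶ J₀), m ≫ n = 𝟙 J₀ ∧ n ≫ m = 𝟙 J ∧ IsMonHom m ∧ IsMonHom n ∧
      (∀ (T : Over (Spec (CommRingCat.of k))) (L : (PicF.XT f T).Modules) (hT) (h : (ModFun.PicDeg f 0).ok T L),
        ψ.app T L hT h = cls hJ₀ L h ≫ m) ∧
      ∀ j : Over.mk f ⟶ J, Jac.IsAbelJacobiAt f σ ψ j → j = jmap σ hσ hJ₀ ≫ m := by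
  letI := grpObjRep hJ₀
  obtain ⟨Lξ, hLξ, hLξi⟩ := ξ.2.1.1.1
  have hξi : ξ.1 ∈ invU _ := ξ.2.1.1
  have hokξ : (ModFun.PicDeg f 0).ok J₀ Lξ := (ok_iff hξi hLξ).2 ξ.2.2
  let m : J₀ ⟶ J := ψ.app J₀ Lξ trivial hokξ
  have key : ∀ (T : Over (Spec (CommRingCat.of k))) (L : (PicF.XT f T).Modules) (hT)
      (h : (ModFun.PicDeg f 0).ok T L), ψ.app T L hT h = cls hJ₀ L h ≫ m := fun T L hT h => by
    obtain ⟨x, hx, hxL, hd⟩ := exists_unit_of_ok h
    let a := cls hJ₀ L h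
    have ha : mp f a ξ.1 = nrm σ hσ T x := valAt_cls hJ₀ h hx hxL
    have hok' : (ModFun.PicDeg f 0).ok T ((ModFun.PicDeg f 0).pull a Lξ) :=
      (ok_iff (map_mem_invU _ hξi) (congrArg (PicF.pullCl (PicF.XTmap f a)) hLξ)).2
        fun t => by rw [degU_mp a hξi]; exact ξ.2.2 _
    rw [← ψ.natural a Lξ trivial hT hokξ hok']
    refine ψ.resp _ _ hT h hok' ?_
    obtain ⟨Mb, hMb, hMbi⟩ := (map_mem_invU (PicF.secT f σ hσ T) ((invU _).inv_mem hx)).1
    refine ⟨Mb, hMbi, (PicGrp.cl_eq_cl_iff _ _).1 ?_⟩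
    show PicF.pullCl (PicF.XTmap f a) (PicF.cl Lξ) = PicF.cl L * PicF.pullCl (PicF.XTproj f T) (PicF.cl Mb)
    rw [hLξ, ← hxL, hMb]
    show ((mp f a ξ.1 : (PicF.Cl (PicF.XT f T))ˣ) : PicF.Cl (PicF.XT f T)) =
      ((x * pb f T (sT σ hσ T x⁻¹) : (PicF.Cl (PicF.XT f T))ˣ) : PicF.Cl (PicF.XT f T))
    rw [ha, nrm_def, map_inv, map_inv]
  have hid : cls hJ₀ Lξ hokξ = 𝟙 J₀ := valAt_inj hJ₀ (by
    rw [valAt_cls hJ₀ hokξ hξi hLξ.symm, nrm_of_mem σ hσ ξ.2.1]
    exact (mp_id ξ.1).symm)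
  obtain ⟨n, hn, -⟩ := hJ.coarse.2.1 J₀ (clsHom hJ₀)
  have hmn : m ≫ n = 𝟙 J₀ := (hn J₀ Lξ trivial hokξ).symm.trans hid
  have hnm : n ≫ m = 𝟙 J := by
    obtain ⟨i, -, hu⟩ := hJ.coarse.2.1 J ψ
    refine (hu (n ≫ m) fun T L hT h => ?_).trans (hu (𝟙 J) fun T L hT h => (Category.comp_id _).symm).symm
    rw [← Category.assoc, ← hn T L hT h]
    exact key T L hT h
  have hmul : μ[J₀] ≫ m = (fst J₀ J₀ ≫ m) * (snd J₀ J₀ ≫ m) := by
    have hq : ∀ q : J₀ ⊗ J₀ ⟶ J₀, (ModFun.PicDeg f 0).ok (J₀ ⊗ J₀) ((ModFun.PicDeg f 0).pull q Lξ) := fun q =>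
      (ok_iff (map_mem_invU _ hξi) (congrArg (PicF.pullCl (PicF.XTmap f q)) hLξ)).2
        fun t => by rw [degU_mp q hξi]; exact ξ.2.2 _
    rw [← ψ.natural μ[J₀] Lξ trivial trivial hokξ (hq _), ← ψ.natural (fst J₀ J₀) Lξ trivial trivial hokξ (hq _),
      ← ψ.natural (snd J₀ J₀) Lξ trivial trivial hokξ (hq _)]
    refine hJ.mul _ _ _ _ _ (hq _) (hq _) (hq _) ((PicGrp.cl_eq_cl_iff _ _).1 ?_)
    show PicF.pullCl _ (PicF.cl Lξ) = PicF.pullCl _ (PicF.cl Lξ) * PicF.pullCl _ (PicF.cl Lξ)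
    rw [hLξ]
    exact congrArg Units.val (valAt_mul_μ hJ₀)
  have hm : IsMonHom m := by
    have hmulT : μ[J₀] ≫ m = (m ⊗ₘ m) ≫ μ[J] := by
      rw [hmul, Hom.mul_def]
      congr 1
    refine ⟨?_, hmulT⟩
    have e : (η[J₀] ≫ m) * (η[J₀] ≫ m) = η[J₀] ≫ m := by
      have h1 := congrArg (lift η[J₀] η[J₀] ≫ ·) hmul
      simp only [MonObj.comp_mul, ← Category.assoc, lift_fst, lift_snd] at h1
      rw [← h1]
      congr 1
      have h2 : (1 : 𝟙_ (Over (Spec (CommRingCat.of k))) ⟶ J₀) * 1 = 1 := _root_.mul_one 1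
      simpa [Hom.mul_def, Hom.one_def] using h2
    have h3 : η[J₀] ≫ m = (1 : 𝟙_ (Over (Spec (CommRingCat.of k))) ⟶ J) := mul_eq_left.1 e
    simpa [Hom.one_def] using h3
  haveI := hm
  have hn' : IsMonHom n := by
    refine ⟨?_, ?_⟩
    · rw [← hm.one_hom, Category.assoc, hmn, Category.comp_id]
    · haveI : IsSplitMono m := IsSplitMono.mk' ⟨n, hmn⟩
      rw [← cancel_mono m, Category.assoc, hnm, Category.comp_id, Category.assoc, hm.mul_hom,
        ← Category.assoc, tensorHom_comp_tensorHom, hnm]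
      simp
  refine ⟨m, n, hmn, hnm, hm, hn', key, fun j hj => ?_⟩
  obtain ⟨hP, L, hL, ⟨hLi, ⟨e⟩⟩, rfl⟩ := hj
  rw [key _ L hP hL]
  congr 1
  refine valAt_inj hJ₀ ?_
  have hx : ((diffCl (origin (Over.mk f) σ hσ) (𝟙 (Over.mk f))) : PicF.Cl (PicF.XT f (Over.mk f))) = PicF.cl L := by
    have e1 : PicF.cl L * (uI (𝟙 (Over.mk f)) : PicF.Cl (PicF.XT f (Over.mk f))) =
        (uI (origin (Over.mk f) σ hσ) : PicF.Cl (PicF.XT f (Over.mk f))) := by
      rw [val_uI_origin]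
      exact AbDualLib.cl_congr e
    rw [diffCl, Units.val_mul, ← e1, _root_.mul_assoc, Units.mul_inv, _root_.mul_one]
  rw [valAt_cls hJ₀ hL (mem_of_cl hLi hx) hx, valAt_jmap]
  rfl

end Groth.Agent.L26.JacRat
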