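import Groth.Agent.L26.JacRat.Tuples
import Groth.Agent.L25.HomScheme.Sigma

/-!
# Tuples with the same divisor have the same sums
-/

set_option autoImplicit false
set_option linter.style.haveILetI false
set_option linter.unusedSectionVars false
set_option backward.isDefEq.respectTransparency false
set_option backward.isDefEq.respectTransparency.types false

universe u

open CategoryTheory CategoryTheory.Limits AlgebraicGeometry MonoidalCategory CartesianMonoidalCategory MonObj

noncomputable section

namespace Groth.Agent.L26.JacRat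

open Groth.Agent.Elliptic

variable {X S : Scheme.{u}} {f : X ⟶ S} [IsProper f] [SmoothOfRelativeDimension 1 f] [GeometricallyConnected f]
  {T T' : Over S}

/-- The points where two sections do not meet. -/
def apart (a b : T ⟶ Over.mk f) : Set T.left := {t | sec a t ≠ sec b t}

theorem sec_apply_proj (a : T ⟶ Over.mk f) (t : T.left) : PicF.XTproj f T (sec a t) = t := by
  rw [← Scheme.Hom.comp_apply, sec_proj]; rfl

theorem isOpen_apart (a b : T ⟶ Over.mk f) : IsOpen (apart a b) := by
  haveI := isClosedImmersion_section (f := PicF.XTproj f T) (sec_proj b)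
  have : apart a b = (sec a ⁻¹' Set.range (sec b))ᶜ := by
    ext t
    refine ⟨fun h ⟨s, hs⟩ => h ?_, fun h hab => h ⟨t, hab.symm⟩⟩
    have e := congrArg (PicF.XTproj f T) hs
    rw [sec_apply_proj, sec_apply_proj] at e
    subst e
    exact hs.symm
  rw [this]
  exact ((sec b).isClosedEmbedding.isClosed_range.preimage (sec a).continuous).isOpen_compl

theorem apart_comp (q : T' ⟶ T) (a b : T ⟶ Over.mk f) (t : T'.left) (h : q.left t ∈ apart a b) :
    t ∈ apart (q ≫ a) (q ≫ b) := fun e => h (by
  have e1 := congrArg (PicF.XTmap f q) e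
  rwa [← Scheme.Hom.comp_apply, ← Scheme.Hom.comp_apply, sec_comp, sec_comp, Scheme.Hom.comp_apply,
    Scheme.Hom.comp_apply] at e1)

/-- The sections of a tuple nowhere meet. -/
def Disj {n : ℕ} (a : Fin n → (T ⟶ Over.mk f)) : Prop :=
  ∀ i j, i ≠ j → ∀ t, t ∈ apart (a i) (a j)

theorem Disj.comp {n : ℕ} {a : Fin n → (T ⟶ Over.mk f)} (h : Disj a) (q : T' ⟶ T) :
    Disj fun i => q ≫ a i := fun i j hij t => apart_comp q _ _ t (h i j hij _)

theorem mem_support_idT : ∀ {n : ℕ} (a : Fin n → (T ⟶ Over.mk f)) (z : PicF.XT f T),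
    z ∈ (idT a).support ↔ ∃ i, z ∈ Set.range (sec (a i))
  | 0, a, z => by
    rw [idT, Fin.prod_univ_zero]
    simp [Scheme.IdealSheafData.one_eq_top, ← SetLike.mem_coe]
  | n + 1, a, z => by
    haveI := isClosedImmersion_section (f := PicF.XTproj f T) (sec_proj (a 0))
    have h0 : z ∈ (sec (a 0)).ker.support ↔ z ∈ Set.range (sec (a 0)) := by
      rw [← SetLike.mem_coe, Scheme.Hom.support_ker, (sec (a 0)).isClosedEmbedding.isClosed_range.closure_eq]
    have ih := mem_support_idT (fun i => a i.succ) z
    rw [idT] at ih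
    rw [idT, Fin.prod_univ_succ, Scheme.IdealSheafData.support_mul, Fin.exists_fin_succ, ← h0, ← ih]
    rfl

/-- A section inside a divisor of sections, away from all but one of them, is that one. -/
theorem eq_of_apart {n : ℕ} (b : Fin (n + 1) → (T ⟶ Over.mk f)) (j : Fin (n + 1)) (a : T ⟶ Over.mk f)
    (hle : idT b ≤ (sec a).ker) (hav : ∀ l, l ≠ j → ∀ t, t ∈ apart a (b l)) : b j = a := by
  haveI := isClosedImmersion_section (f := PicF.XTproj f T) (sec_proj a)
  haveI := isClosedImmersion_section (f := PicF.XTproj f T) (sec_proj (b j))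
  let J := idT fun l => b (j.succAbove l)
  have hprod : idT b = (sec (b j)).ker * J := Fin.prod_univ_succAbove (fun l => (sec (b l)).ker) j
  have hJ : J.comap (sec a) = ⊤ := by
    refine (Scheme.IdealSheafData.support_eq_bot_iff _).1 ?_
    rw [Scheme.IdealSheafData.support_comap]
    ext t
    simp only [TopologicalSpace.Closeds.coe_preimage, Set.mem_preimage, TopologicalSpace.Closeds.coe_bot,
      Set.mem_empty_iff_false, iff_false, SetLike.mem_coe]
    intro h
    obtain ⟨l, s, hs⟩ := (mem_support_idT _ _).1 h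
    refine hav _ (Fin.succAbove_ne j l) t ?_
    have e := congrArg (PicF.XTproj f T) hs
    rw [sec_apply_proj, sec_apply_proj] at e
    subst e
    exact hs.symm
  have h2 : (idT b).comap (sec a) = ⊥ := le_bot_iff.1 (by
    rw [← Scheme.IdealSheafData.le_map_iff_comap_le, Scheme.IdealSheafData.map_bot]
    exact hle)
  rw [hprod, Groth.L22.Ideals.comap_mul, hJ, ← Scheme.IdealSheafData.one_eq_top, _root_.mul_one] at h2
  have h3 : (sec (b j)).ker ≤ (sec a).ker := by
    have h4 := (Scheme.IdealSheafData.le_map_iff_comap_le (f := sec a) (I := ⊥) (J := (sec (b j)).ker)).2 h2.le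
    rwa [Scheme.IdealSheafData.map_bot] at h4
  exact sec_injective (Groth.L02.Hilb.section_eq_of_ker_le _ _ (sec_proj _) (sec_proj _) h3)

variable {A : Over S} [GrpObj A] [IsCommMonObj A] (h : Over.mk f ⟶ A)

theorem comp_prod {κ : Type*} [Fintype κ] (q : T' ⟶ T) (x : κ → (T ⟶ A)) : q ≫ ∏ i, x i = ∏ i, (q ≫ x i) :=
  map_prod (MonoidHom.mk' (fun y : T ⟶ A => q ≫ y) fun y z => MonObj.comp_mul q y z) x Finset.univ

/-- Tuples with the same divisor have the same sums. -/
theorem prod_eq_of_idT_eq : ∀ {n : ℕ} {T : Over S} (a b : Fin n → (T ⟶ Over.mk f)), Disj b →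
    idT a = idT b → ∏ i, (a i ≫ h) = ∏ i, (b i ≫ h)
  | 0, _, _, _, _, _ => by rw [Fin.prod_univ_zero, Fin.prod_univ_zero]
  | n + 1, T, a, b, hd, he => by
    haveI : IsSeparated f := inferInstance
    have hmem : ∀ t : T.left, ∃ j, sec (a 0) t = sec (b j) t := fun t => by
      have h1 : sec (a 0) t ∈ (idT a).support := (mem_support_idT a _).2 ⟨0, t, rfl⟩
      rw [he] at h1
      obtain ⟨j, s, hs⟩ := (mem_support_idT b _).1 h1
      have e := congrArg (PicF.XTproj f T) hs
      rw [sec_apply_proj, sec_apply_proj] at e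
      subst e
      exact ⟨j, hs.symm⟩
    choose j hj using hmem
    let W : T.left → T.left.Opens := fun t =>
      ⟨⋂ l ∈ (Finset.univ.erase (j t) : Finset (Fin (n + 1))), apart (a 0) (b l),
        isOpen_biInter_finset fun l _ => isOpen_apart _ _⟩
    have hW : ∀ t, t ∈ W t := fun t => Set.mem_iInter₂.2 fun l hl hab =>
      hd l (j t) (Finset.ne_of_mem_erase hl) t (hab.symm.trans (hj t))
    have hF : Groth.L25.HomScheme.IsOpenFamily (fun t : T.left => AbDual.ovr T (W t).ι)
        (fun t => AbDual.ovrHom T (W t).ι) :=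
      ⟨fun t => inferInstanceAs (IsOpenImmersion (W t).ι), fun t => ⟨t, ⟨t, hW t⟩, rfl⟩⟩
    refine hF.hom_ext fun t => ?_
    let q := AbDual.ovrHom T (W t).ι
    let a' := fun i => q ≫ a i
    let b' := fun i => q ≫ b i
    have he' : idT a' = idT b' := by rw [← comap_idT q, ← comap_idT q, he]
    have hd' : Disj b' := hd.comp q
    have hle : idT b' ≤ (sec (a' 0)).ker := by
      rw [← he', idT, Fin.prod_univ_succ]
      exact mul_le_of_le_one_right' (by rw [Scheme.IdealSheafData.one_eq_top]; exact le_top)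
    have hab : b' (j t) = a' 0 := eq_of_apart b' (j t) (a' 0) hle fun l hl s =>
      apart_comp q _ _ s (Set.mem_iInter₂.1 s.2 l (Finset.mem_erase.2 ⟨hl, Finset.mem_univ l⟩))
    have hrest : idT (fun i => a' i.succ) = idT fun l => b' ((j t).succAbove l) := by
      refine Groth.L02.Hilb.eq_of_mul_eq_mul (Groth.L02.Hilb.eff_secGraph f _ (a' 0).left (Over.w (a' 0))) ?_
      show (sec (a' 0)).ker * _ = (sec (a' 0)).ker * _
      conv_rhs => rw [← hab]
      exact ((Fin.prod_univ_succ fun i => (sec (a' i)).ker).symm.trans he').trans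
        (Fin.prod_univ_succAbove (fun l => (sec (b' l)).ker) (j t))
    have ih := prod_eq_of_idT_eq _ _ (fun i l hil => hd' _ _ (Fin.succAbove_right_injective.ne hil)) hrest
    rw [comp_prod, comp_prod]
    rw [Fin.prod_univ_succ, Fin.prod_univ_succAbove _ (j t)]
    simp only [← Category.assoc]
    change (a' 0 ≫ h) * _ = (b' (j t) ≫ h) * _
    rw [hab, ih]

end Groth.Agent.L26.JacRat
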