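import Groth.Agent.L26.JacRat.Fam
import Groth.Agent.L21.RR.BaseChange
import Groth.Agent.L21.Duality.SpecialApps
import Mathlib.AlgebraicGeometry.Morphisms.FiniteType
import Mathlib.FieldTheory.IntermediateField.Adjoin.Basic
import Mathlib.FieldTheory.IsAlgClosed.AlgebraicClosure

/-!
# Twisting classes over a finite extension
-/

set_option autoImplicit false
set_option linter.style.haveILetI false
set_option linter.unusedSectionVars false
set_option backward.isDefEq.respectTransparency false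
set_option backward.isDefEq.respectTransparency.types false

universe u

open CategoryTheory CategoryTheory.Limits AlgebraicGeometry MonoidalCategory CartesianMonoidalCategory

noncomputable section

namespace Groth.Agent.L26.JacRat

open Groth.Agent.L26.PicRep Groth.Agent.L26.PicSm Groth.Agent.Elliptic
attribute [local instance] Groth.L08.Cube.clMonoid Groth.Agent.L26.PicSm.curveOver

/-- Fibre dimensions over a field are dimensions of cohomology. -/
theorem fiberRank_eq_h {K : Type u} [Field K] {Y : Scheme.{u}} [Y.Over (Spec (CommRingCat.of K))]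
    [IsProper (Y ↘ Spec (CommRingCat.of K))] {M : Y.Modules} (hM : Coh.IsCoh M) (p : ℕ)
    (t : ↥(Spec (CommRingCat.of K))) :
    CohIII.fiberRank (Y ↘ Spec (CommRingCat.of K)) M p t = Groth.L21.RR.h K p M := by
  let q := Y ↘ Spec (CommRingCat.of K)
  let s := (Spec (CommRingCat.of K)).fromSpecResidueField t
  letI : Algebra K ((Spec (CommRingCat.of K)).residueField t) := (Spec.preimage s).hom.toAlgebra
  letI : (q.fiber t).Over (Spec (CommRingCat.of ((Spec (CommRingCat.of K)).residueField t))) :=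
    ⟨q.fiberToSpecResidueField t⟩
  have hs : Spec.map (CommRingCat.ofHom (algebraMap K ((Spec (CommRingCat.of K)).residueField t))) = s :=
    Spec.map_preimage s
  have sq : IsPullback (q.fiberι t) (q.fiber t ↘ Spec (CommRingCat.of ((Spec (CommRingCat.of K)).residueField t)))
      q (Spec.map (CommRingCat.ofHom (algebraMap K ((Spec (CommRingCat.of K)).residueField t)))) := by
    rw [hs]
    exact IsPullback.of_hasPullback q s
  exact Groth.L21.RR.h_pullback (k := K) (q.fiberι t) sq hM p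

section General

variable {X S : Scheme.{u}} (f : X ⟶ S) [IsProper f] [SmoothOfRelativeDimension 1 f] [GeometricallyConnected f]
  (σ : S ⟶ X) (hσ : σ ≫ f = 𝟙 S) (g : ℕ)

/-- The classes of degree zero on the power. -/
def δV : (PicF.Cl (PicF.XT f (pw f g)))ˣ := nrm σ hσ _ (pwCl (f := f) g)

/-- The twisting classes on the power. -/
def ηV : (PicF.Cl (PicF.XT f (pw f g)))ˣ :=
  nrm σ hσ _ (pwCl (f := f) g * (uI (origin (pw f g) σ hσ) ^ g)⁻¹)

variable {f}

theorem mem_invU {T : Over S} {x : (PicF.Cl (PicF.XT f T))ˣ} (h : PicF.IsInvertibleCl (x : PicF.Cl (PicF.XT f T))) :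
    x ∈ invU _ := by
  obtain ⟨y, hy, hyx⟩ := exists_invU h
  rwa [Units.ext hyx] at hy

theorem uI_mem {T : Over S} (P : T ⟶ Over.mk f) : uI P ∈ invU _ :=
  mem_invU ⟨_, rfl, isInvertible_secIdeal P⟩

theorem pwCl_mem : pwCl (f := f) g ∈ invU _ :=
  mem_invU (AbDualLib.isInvertibleCl_of_isPicZeroCl (isPicZeroCl_pwCl g))

theorem δV_mem : δV f σ hσ g ∈ deg0Sub f σ hσ _ :=
  ⟨nrm_mem σ hσ (pwCl_mem g), fun t => by
    rw [δV, degU_nrm σ hσ (pwCl_mem g)]
    exact (isPicZeroCl_iff_degU (pwCl_mem g)).1 (isPicZeroCl_pwCl g) t⟩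

theorem ηV_mem : ηV f σ hσ g ∈ rigSub f σ hσ _ :=
  nrm_mem σ hσ ((invU _).mul_mem (pwCl_mem g) ((invU _).inv_mem ((invU _).pow_mem (uI_mem _) g)))

theorem mp_ηV {T : Over S} (q : T ⟶ pw f g) :
    mp f q (ηV f σ hσ g) = nrm σ hσ T (mp f q (pwCl (f := f) g) * (uI (origin T σ hσ) ^ g)⁻¹) := by
  rw [ηV, mp_nrm, map_mul, map_inv, map_pow]
  congr 4
  exact (map_uI q _).trans (congrArg uI (comp_origin σ hσ q))

theorem mp_δV {T : Over S} (q : T ⟶ pw f g) :
    mp f q (δV f σ hσ g) = nrm σ hσ T (mp f q (pwCl (f := f) g)) := mp_nrm σ hσ q _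

variable {g} {K : Type u} [Field K] [IsAlgClosed K] (τ : Spec (CommRingCat.of K) ⟶ S)

local notation "TK" => (Over.mk τ : Over S)

/-- The genus of a geometric fibre. -/
theorem genus_le_one_add (hgK : Curv2.genus K (PicF.XT f TK) = g) :
    1 ≤ (g : ℤ) + Curv2.euler K (PicF.XT f TK) (Coh.structureModule _) := by
  rw [euler_curve (f := f) τ, hgK]
  omega

include hσ in
/-- A point of the power is complemented to a good class. -/
theorem exists_complement (hgK : Curv2.genus K (PicF.XT f TK) = g) (v : TK ⟶ pw f g) :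
    ∃ q : TK ⟶ pw f g, goodSet f TK ((mp f v (δV f σ hσ g) * mp f q (ηV f σ hσ g) :
      (PicF.Cl (PicF.XT f TK))ˣ) : PicF.Cl (PicF.XT f TK)) = Set.univ := by
  haveI := curve_proper (f := f) τ
  haveI := curve_smooth (f := f) τ
  haveI := curve_integral (f := f) τ
  haveI := Groth.L21.RR.isNoetherian_of_proper (X := PicF.XT f TK) K
  have hd := curve_dim (f := f) τ
  obtain ⟨N, hN, hdN, hh⟩ := Groth.L21.Duality.exists_h0_eq_one (k := K) hd (curve_h0 τ) g hgK.ge
  haveI := Groth.L21.Duality.nontrivial_of_h0_pos (k := K) (L := N) hh.ge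
  obtain ⟨φN, hφN⟩ := Groth.L21.RR.exists_hom_ne_zero (L := N)
  obtain ⟨p₁, -, hp₁⟩ := exists_lift_pw τ (origin TK σ hσ) g N hN hdN ⟨φN, hφN⟩
  have h1 : Groth.L21.RR.h K 1 N = 0 := by
    have e := hdN
    rw [Curv2.deg, Groth.L21.RR.euler_eq K hd.le (M := N), euler_curve (f := f) τ, hgK, hh] at e
    push_cast at e
    omega
  obtain ⟨n, hn, hnN⟩ := exists_invU (c := PicF.cl N) ⟨_, rfl, hN⟩
  have hp₁' : mp f p₁ (ηV f σ hσ g) = nrm σ hσ TK n := by
    have e : mp f p₁ (pwCl (f := f) g) = n * uI (origin TK σ hσ) ^ g :=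
      Units.ext (by rw [Units.val_mul, hnN]; exact hp₁)
    rw [mp_ηV, e, mul_inv_cancel_right]
  let c := mp f p₁ (δV f σ hσ g) * (mp f v (δV f σ hσ g))⁻¹
  have hc : c ∈ deg0Sub f σ hσ TK := (deg0Sub f σ hσ TK).mul_mem (mp_mem_deg0 f σ hσ _ (δV_mem σ hσ g))
    ((deg0Sub f σ hσ TK).inv_mem (mp_mem_deg0 f σ hσ _ (δV_mem σ hσ g)))
  obtain ⟨q, -, hq⟩ := exists_pw_of_isPicZeroCl τ ((isPicZeroCl_iff_degU hc.1.1).2 hc.2) (origin TK σ hσ)
    (genus_le_one_add τ hgK)
  refine ⟨q, ?_⟩
  have hq' : mp f q (pwCl (f := f) g) = c := Units.ext hq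
  have key : mp f v (δV f σ hσ g) * mp f q (ηV f σ hσ g) = nrm σ hσ TK n := by
    rw [mp_ηV, hq', map_mul, nrm_of_mem σ hσ hc.1, ← mul_assoc,
      show mp f v (δV f σ hσ g) * c = mp f p₁ (δV f σ hσ g) from mul_left_comm _ _ _ |>.trans (by simp),
      mp_δV, ← map_mul, ← hp₁', mp_ηV]
  rw [key, goodSet_nrm σ hσ hn, hnN]
  refine Set.eq_univ_of_forall fun t => (mem_goodSet_iff (L := N) rfl t).2 ?_
  have hNc := Groth.L16.ProperFinite.isCoh_of_isInvertible hN
  exact ⟨(fiberRank_eq_h (K := K) (Y := PicF.XT f TK) hNc 1 t).trans h1,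
    (fiberRank_eq_h (K := K) (Y := PicF.XT f TK) hNc 0 t).trans hh⟩

end General

section Field

variable {k : Type u} [Field k] {X : Scheme.{u}} {f : X ⟶ Spec (CommRingCat.of k)} [IsProper f]
  [SmoothOfRelativeDimension 1 f] [GeometricallyConnected f] (σ : Spec (CommRingCat.of k) ⟶ X)
  (hσ : σ ≫ f = 𝟙 _) {g : ℕ}

variable (k) in
/-- The spectrum of an extension field over the base field. -/
abbrev extObj (F : Type u) [Field F] [Algebra k F] : Over (Spec (CommRingCat.of k)) :=
  Over.mk (Spec.map (CommRingCat.ofHom (algebraMap k F)))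

/-- Points with values in an algebraic closure are defined over a finite subextension. -/
theorem exists_descend_point {V : Over (Spec (CommRingCat.of k))} [LocallyOfFiniteType V.hom]
    (q : extObj k (AlgebraicClosure k) ⟶ V) :
    ∃ L : IntermediateField k (AlgebraicClosure k), FiniteDimensional k L ∧
      ∃ q₀ : extObj k L ⟶ V,
        q.left = Spec.map (CommRingCat.ofHom (algebraMap L (AlgebraicClosure k))) ≫ q₀.left := by
  let K := AlgebraicClosure k
  let x := q.left (IsLocalRing.closedPoint K)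
  obtain ⟨_, ⟨U, hU, rfl⟩, hxU, -⟩ :=
    V.left.isBasis_affineOpens.exists_subset_of_mem_open (Set.mem_univ x) isOpen_univ
  obtain ⟨h, hh⟩ : ∃ h : Spec (CommRingCat.of K) ⟶ Spec Γ(V.left, U), h ≫ hU.fromSpec = q.left :=
    ⟨IsOpenImmersion.lift hU.fromSpec q.left (by
      rintro _ ⟨t, rfl⟩
      rw [hU.range_fromSpec]
      rw [show t = IsLocalRing.closedPoint K from Subsingleton.elim (α := PrimeSpectrum K) _ _]
      exact hxU), IsOpenImmersion.lift_fac _ _ _⟩
  obtain ⟨ρ, rfl⟩ : ∃ ρ, Spec.map ρ = h := ⟨Spec.preimage h, Spec.map_preimage h⟩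
  letI : Algebra k Γ(V.left, U) := (Spec.preimage (hU.fromSpec ≫ V.hom)).hom.toAlgebra
  have hk : Spec.map (CommRingCat.ofHom (algebraMap k Γ(V.left, U))) = hU.fromSpec ≫ V.hom := Spec.map_preimage _
  haveI : Algebra.FiniteType k Γ(V.left, U) := by
    have h1 : LocallyOfFiniteType (Spec.map (CommRingCat.ofHom (algebraMap k Γ(V.left, U)))) := by
      rw [hk]; infer_instance
    exact (HasRingHomProperty.Spec_iff (P := @LocallyOfFiniteType)).1 h1
  have hcomp : CommRingCat.ofHom (algebraMap k Γ(V.left, U)) ≫ ρ = CommRingCat.ofHom (algebraMap k K) := by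
    apply Spec.map_injective
    rw [Spec.map_comp, hk, ← Category.assoc, hh]
    exact Over.w q
  let ρ' : Γ(V.left, U) →ₐ[k] K := ⟨ρ.hom, fun a => RingHom.congr_fun (congrArg CommRingCat.Hom.hom hcomp) a⟩
  obtain ⟨gs, hgs⟩ := (Algebra.FiniteType.out : (⊤ : Subalgebra k Γ(V.left, U)).FG)
  haveI : Algebra.IsAlgebraic k K := inferInstance
  let L : IntermediateField k K := IntermediateField.adjoin k (ρ' '' (gs : Set Γ(V.left, U)))
  have hfin : FiniteDimensional k L := by
    haveI : Finite ↥(ρ' '' (gs : Set Γ(V.left, U))) := (gs.finite_toSet.image ρ').to_subtype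
    exact IntermediateField.finiteDimensional_adjoin fun a _ => (Algebra.IsAlgebraic.isAlgebraic a).isIntegral
  have hrange : ∀ a, ρ' a ∈ L := fun a => by
    have h1 : (Algebra.adjoin k (gs : Set Γ(V.left, U))).map ρ' ≤ L.toSubalgebra := by
      rw [AlgHom.map_adjoin]
      exact Algebra.adjoin_le fun z hz => IntermediateField.subset_adjoin k _ hz
    rw [hgs] at h1
    exact h1 ⟨a, trivial, rfl⟩
  let ρL : Γ(V.left, U) →ₐ[k] L := ρ'.codRestrict L.toSubalgebra hrange
  refine ⟨L, hfin, Over.homMk (Spec.map (CommRingCat.ofHom ρL.toRingHom) ≫ hU.fromSpec) ?_, ?_⟩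
  · show (_ ≫ _) ≫ V.hom = Spec.map _
    rw [Category.assoc, ← hk, ← Spec.map_comp]
    exact congrArg Spec.map (CommRingCat.hom_ext (RingHom.ext ρL.commutes))
  · show q.left = _ ≫ _ ≫ _
    rw [← Category.assoc, ← Spec.map_comp, ← hh]
    rfl

include hσ in
/-- Over a finite extension finitely many twisting classes suffice. -/
theorem exists_twists (hgK : ∀ τ : Spec (CommRingCat.of (AlgebraicClosure k)) ⟶ Spec (CommRingCat.of k),
      Curv2.genus (AlgebraicClosure k) (PicF.XT f (Over.mk τ)) = g) :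
    ∃ (L : IntermediateField k (AlgebraicClosure k)) (_ : FiniteDimensional k L) (r : ℕ)
      (q : Fin r → (extObj k L ⟶ pw f g)), ∀ z : (pw f g ⊗ extObj k L).left, ∃ j,
        z ∈ goodSet f _ ((mp f (fst (pw f g) (extObj k L)) (δV f σ hσ g) *
          mp f (snd (pw f g) (extObj k L)) (mp f (q j) (ηV f σ hσ g)) :
            (PicF.Cl (PicF.XT f (pw f g ⊗ extObj k L)))ˣ) : PicF.Cl (PicF.XT f (pw f g ⊗ extObj k L))) := by
  let K := AlgebraicClosure k
  let T : Over (Spec (CommRingCat.of k)) := extObj k K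
  let V := pw f g
  let B := V ⊗ T
  let cls : (T ⟶ V) → (PicF.Cl (PicF.XT f B))ˣ := fun q =>
    mp f (fst V T) (δV f σ hσ g) * mp f (snd V T) (mp f q (ηV f σ hσ g))
  have hcls : ∀ q, cls q ∈ invU _ := fun q => (invU _).mul_mem (mp_mem σ hσ _ (δV_mem σ hσ g).1).1
    (mp_mem σ hσ _ (mp_mem σ hσ _ (ηV_mem σ hσ g))).1
  let W : (T ⟶ V) → B.left.Opens := fun q => ⟨goodSet f B (cls q : PicF.Cl (PicF.XT f B)), isOpen_goodSet (hcls q).1⟩
  haveI : IsProper V.hom := isProper_pw g
  haveI : IsProper (snd V T).left := inferInstanceAs (IsProper (pullback.snd V.hom T.hom))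
  haveI : CompactSpace ↥T.left := inferInstanceAs (CompactSpace (PrimeSpectrum K))
  haveI : CompactSpace ↥B.left := QuasiCompact.compactSpace_of_compactSpace (snd V T).left
  haveI : JacobsonSpace ↥B.left := LocallyOfFiniteType.jacobsonSpace (Y := Spec (CommRingCat.of K)) (snd V T).left
  have hcl : ∀ z ∈ closedPoints ↥B.left, ∃ q, z ∈ W q := fun z hz => by
    let pz : Spec (CommRingCat.of K) ⟶ B.left := pointOfClosedPoint (snd V T).left z hz
    let p : T ⟶ B := Over.homMk pz (by
      show pz ≫ B.hom = T.hom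
      rw [← Over.w (snd V T), ← Category.assoc, pointOfClosedPoint_comp, Category.id_comp])
    have hp : p ≫ snd V T = 𝟙 T := Over.OverMorphism.ext (pointOfClosedPoint_comp _ _ _)
    obtain ⟨q, hq⟩ := exists_complement σ hσ (Spec.map (CommRingCat.ofHom (algebraMap k K))) (hgK _) (p ≫ fst V T)
    refine ⟨q, ?_⟩
    have h1 : mp f p (cls q) = mp f (p ≫ fst V T) (δV f σ hσ g) * mp f q (ηV f σ hσ g) := by
      rw [map_mul, ← mp_comp, ← mp_comp p (snd V T), hp, mp_id]
    have h2 := goodSet_pull p (hcls q).1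
    rw [show PicF.pullCl (PicF.XTmap f p) (cls q : PicF.Cl (PicF.XT f B)) = _ from congrArg Units.val h1, hq] at h2
    have h3 := Set.eq_univ_iff_forall.1 h2.symm (IsLocalRing.closedPoint K)
    rw [← show p.left (IsLocalRing.closedPoint K) = z from pointOfClosedPoint_apply _ z hz _]
    exact h3
  have hcov : (Set.univ : Set ↥B.left) ⊆ ⋃ q, (W q : Set ↥B.left) := by
    by_contra hne
    obtain ⟨z, hz⟩ : ((⋃ q, (W q : Set ↥B.left))ᶜ).Nonempty := by
      rw [Set.nonempty_compl]
      exact fun h => hne h.ge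
    obtain ⟨w, hw, hwc⟩ := nonempty_inter_closedPoints ⟨z, hz⟩
      (isOpen_iUnion fun q => (W q).2).isClosed_compl.isLocallyClosed
    obtain ⟨q, hq⟩ := hcl w hwc
    exact hw (Set.mem_iUnion.2 ⟨q, hq⟩)
  obtain ⟨s, hs⟩ := isCompact_univ.elim_finite_subcover (fun q => (W q : Set ↥B.left)) (fun q => (W q).2) hcov
  haveI : LocallyOfFiniteType V.hom := inferInstance
  choose L₁ hfin q₁ hq₁ using fun q : ↥s => exists_descend_point (V := V) q.1
  let L : IntermediateField k K := ⨆ q, L₁ q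
  haveI : ∀ q, FiniteDimensional k (L₁ q) := hfin
  haveI : FiniteDimensional k L := IntermediateField.finiteDimensional_iSup_of_finite
  let P := extObj k L
  let e : Fin s.card ≃ ↥s := s.equivFin.symm
  let inc : ∀ q, P ⟶ extObj k (L₁ q) := fun q =>
    Over.homMk (Spec.map (CommRingCat.ofHom (IntermediateField.inclusion (le_iSup L₁ q)).toRingHom)) (by
      show Spec.map _ ≫ Spec.map _ = Spec.map _
      rw [← Spec.map_comp]; rfl)
  let b : T ⟶ P := Over.homMk (Spec.map (CommRingCat.ofHom (algebraMap L K))) (by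
    show Spec.map _ ≫ Spec.map _ = Spec.map _
    rw [← Spec.map_comp]; rfl)
  have hb : ∀ q : ↥s, b ≫ inc q ≫ q₁ q = q.1 := fun q => Over.OverMorphism.ext (by
    show Spec.map _ ≫ Spec.map _ ≫ (q₁ q).left = q.1.left
    rw [hq₁ q, ← Category.assoc, ← Spec.map_comp]
    rfl)
  refine ⟨L, inferInstance, s.card, fun j => inc (e j) ≫ q₁ (e j), fun z => ?_⟩
  let Bb : B ⟶ V ⊗ P := lift (fst V T) (snd V T ≫ b)
  have sqb : IsPullback Bb.left (snd V T).left (snd V P).left b.left := by
    refine IsPullback.of_right ?_ (congrArg CommaMorphism.left (lift_snd (fst V T) (snd V T ≫ b)))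
      (IsPullback.of_hasPullback V.hom P.hom)
    rw [show b.left ≫ P.hom = T.hom from Over.w b, show Bb.left ≫ pullback.fst V.hom P.hom = pullback.fst V.hom T.hom
      from congrArg CommaMorphism.left (lift_fst (fst V T) (snd V T ≫ b))]
    exact IsPullback.of_hasPullback V.hom T.hom
  haveI : Surjective b.left := ⟨fun x => ⟨IsLocalRing.closedPoint K, Subsingleton.elim (α := PrimeSpectrum L) _ x⟩⟩
  haveI : Surjective Bb.left := MorphismProperty.of_isPullback (P := @Surjective) sqb.flip inferInstance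
  obtain ⟨w, rfl⟩ := Bb.left.surjective z
  obtain ⟨q, hqs, hwq⟩ := Set.mem_iUnion₂.1 (hs (Set.mem_univ w))
  obtain ⟨j, hj⟩ := e.surjective ⟨q, hqs⟩
  refine ⟨j, ?_⟩
  let clsP : (PicF.Cl (PicF.XT f (V ⊗ P)))ˣ := mp f (fst V P) (δV f σ hσ g) *
    mp f (snd V P) (mp f (inc (e j) ≫ q₁ (e j)) (ηV f σ hσ g))
  have hP : clsP ∈ invU _ := (invU _).mul_mem (mp_mem σ hσ _ (δV_mem σ hσ g).1).1
    (mp_mem σ hσ _ (mp_mem σ hσ _ (ηV_mem σ hσ g))).1
  have h1 : mp f Bb clsP = cls q := by
    rw [map_mul, ← mp_comp, lift_fst, ← mp_comp Bb (snd V P), lift_snd, ← mp_comp, Category.assoc, hb, hj, mp_comp]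
  have h2 := goodSet_pull Bb hP.1
  rw [show PicF.pullCl (PicF.XTmap f Bb) (clsP : PicF.Cl (PicF.XT f (V ⊗ P))) = _ from congrArg Units.val h1] at h2
  have h3 : w ∈ goodSet f B (cls q : PicF.Cl (PicF.XT f B)) := hwq
  rw [h2] at h3
  exact h3

end Field

end Groth.Agent.L26.JacRat
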