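import Groth.Agent.L26.JacRat.JGroup
import Groth.Agent.L26.JacRat.Coincide
import Groth.Agent.L26.JacRat.Points
import Groth.Agent.L26.AV.Hom
import Groth.Agent.L21.Duality.SpecialApps
import Groth.Agent.S0414
import Groth.Agent.S11992
import Mathlib.AlgebraicGeometry.Sites.Fpqc

/-!
# The Albanese property of the Jacobian of a curve with a rational point
-/

set_option autoImplicit false
set_option linter.style.haveILetI false
set_option linter.unusedSectionVars false
set_option backward.isDefEq.respectTransparency false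
set_option backward.isDefEq.respectTransparency.types false

universe u

open CategoryTheory CategoryTheory.Limits AlgebraicGeometry MonoidalCategory CartesianMonoidalCategory MonObj
open Groth.L25.HomScheme

noncomputable section

namespace Groth.Agent.L26.JacRat

open Groth.Agent.L26.PicRep Groth.Agent.L26.PicSm Groth.Agent.Elliptic
attribute [local instance] Groth.L08.Cube.clMonoid Groth.Agent.L26.PicSm.curveOver

section General

variable {X S : Scheme.{u}} {f : X ⟶ S} [IsProper f] [SmoothOfRelativeDimension 1 f] [GeometricallyConnected f]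

/-- A point of a power as a tuple. -/
theorem exists_tuple_of_pw : ∀ {n : ℕ} {T : Over S} (v : T ⟶ pw f n),
    ∃ a : Fin n → (T ⟶ Over.mk f), mp f v (pwCl (f := f) n) = ∏ i, diffCl (v ≫ pwBase n) (a i)
  | 0, T, v => ⟨Fin.elim0, by rw [Fin.prod_univ_zero, pwCl, map_one]⟩
  | n + 1, T, v => by
    obtain ⟨a, ha⟩ := exists_tuple_of_pw (v ≫ pwPr n)
    refine ⟨Fin.snoc a (v ≫ pwLast n), ?_⟩
    have hb : v ≫ pwBase (n + 1) = (v ≫ pwPr n) ≫ pwBase n := by rw [Category.assoc]; rfl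
    rw [Fin.prod_univ_castSucc, pwCl, map_mul]
    simp only [Fin.snoc_castSucc, Fin.snoc_last]
    rw [hb, ← ha, mp_comp v (pwPr n)]
    congr 1
    exact (map_diffCl v (pwPr n ≫ pwBase n) (pwLast n)).trans (by rw [← Category.assoc])

theorem apart_of_comp {T T' : Over S} (q : T' ⟶ T) (a b : T ⟶ Over.mk f) (t : T'.left)
    (h : t ∈ apart (q ≫ a) (q ≫ b)) : q.left t ∈ apart a b := fun e => h (by
  haveI := isClosedImmersion_section (f := PicF.XTproj f T) (sec_proj b)
  haveI := isClosedImmersion_section (f := PicF.XTproj f T') (sec_proj (q ≫ b))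
  have hk := Groth.L02.Hilb.ker_section_comap (Groth.L02.Hilb.isPullback_XTmap f q) (sec b) (sec_proj b)
    (sec (q ≫ b)) (sec_proj _) (sec_comp q b)
  have h1 : sec (q ≫ a) t ∈ (sec (q ≫ b)).ker.support := by
    rw [← hk, Scheme.IdealSheafData.support_comap]
    show PicF.XTmap f q (sec (q ≫ a) t) ∈ (sec b).ker.support
    rw [← Scheme.Hom.comp_apply, sec_comp, Scheme.Hom.comp_apply, e]
    rw [← SetLike.mem_coe, Scheme.Hom.support_ker]
    exact subset_closure ⟨_, rfl⟩
  rw [← SetLike.mem_coe, Scheme.Hom.support_ker,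
    (sec (q ≫ b)).isClosedEmbedding.isClosed_range.closure_eq] at h1
  obtain ⟨s, hs⟩ := h1
  have e1 := congrArg (PicF.XTproj f T') hs
  rw [sec_apply_proj, sec_apply_proj] at e1
  subst e1
  exact hs.symm)

theorem prod_diffCl {T : Over S} {n : ℕ} (o : T ⟶ Over.mk f) (a : Fin n → (T ⟶ Over.mk f)) :
    ∏ i, diffCl o (a i) = uI o ^ n * (∏ i, uI (a i))⁻¹ := by
  simp only [diffCl, Finset.prod_mul_distrib, Finset.prod_inv_distrib, Finset.prod_const, Finset.card_univ,
    Fintype.card_fin]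

end General

variable {k : Type u} [Field k] {X : Scheme.{u}} {f : X ⟶ Spec (CommRingCat.of k)} [IsProper f]
  [SmoothOfRelativeDimension 1 f] [GeometricallyConnected f]
  (σ : Spec (CommRingCat.of k) ⟶ X) (hσ : σ ≫ f = 𝟙 _)

/-- The class of `O(x - σ)`. -/
def jcl : (PicF.Cl (PicF.XT f (Over.mk f)))ˣ := nrm σ hσ _ (diffCl (origin (Over.mk f) σ hσ) (𝟙 _))

theorem jcl_mem : jcl σ hσ ∈ deg0Sub f σ hσ (Over.mk f) := by
  have h := isPicZeroCl_diffCl (origin (Over.mk f) σ hσ) (𝟙 (Over.mk f))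
  have hm : diffCl (origin (Over.mk f) σ hσ) (𝟙 (Over.mk f)) ∈ invU _ :=
    mem_invU (AbDualLib.isInvertibleCl_of_isPicZeroCl h)
  exact ⟨nrm_mem σ hσ hm, fun t => by rw [jcl, degU_nrm σ hσ hm]; exact (isPicZeroCl_iff_degU hm).1 h t⟩

variable {J : Over (Spec (CommRingCat.of k))} {ξ : (deg0Fam f σ hσ).obj J} (hJ : (deg0Fam f σ hσ).IsRep J ξ)

/-- The Abel map with base point `σ`. -/
def jmap : Over.mk f ⟶ J := (hJ _ ⟨jcl σ hσ, jcl_mem σ hσ⟩).exists.choose

theorem valAt_jmap : valAt ξ (jmap σ hσ hJ) = jcl σ hσ :=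
  congrArg Subtype.val (hJ _ ⟨jcl σ hσ, jcl_mem σ hσ⟩).exists.choose_spec

theorem valAt_comp_jmap {T : Over (Spec (CommRingCat.of k))} (a : T ⟶ Over.mk f) :
    valAt ξ (a ≫ jmap σ hσ hJ) = nrm σ hσ T (diffCl (origin T σ hσ) a) := by
  rw [valAt_comp, valAt_jmap, jcl, mp_nrm]
  congr 1
  rw [show mp f a (diffCl (origin (Over.mk f) σ hσ) (𝟙 _)) = _ from map_diffCl a _ _, Category.comp_id, comp_origin]

theorem origin_comp_jmap (T : Over (Spec (CommRingCat.of k))) :
    letI := grpObjRep hJ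
    origin T σ hσ ≫ jmap σ hσ hJ = 1 := by
  letI := grpObjRep hJ
  refine valAt_inj hJ ?_
  rw [valAt_comp_jmap, valAt_one hJ, diffCl, mul_inv_cancel, map_one]

variable [IsProper J.hom] [GeometricallyIntegral J.hom]

/-- The sum map. -/
def sumMap (n : ℕ) : cp f n ⟶ J :=
  letI := grpObjRep hJ
  haveI := isCommMonObj_of_isProper_of_geometricallyIntegral J
  ∏ i, proj f n i ≫ jmap σ hσ hJ

variable {σ hσ}

theorem valAt_comp_sumMap {T : Over (Spec (CommRingCat.of k))} {n : ℕ} (q : T ⟶ cp f n) :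
    valAt ξ (q ≫ sumMap σ hσ hJ n) =
      nrm σ hσ T (uI (origin T σ hσ) ^ n * (∏ i, uI (q ≫ proj f n i))⁻¹) := by
  letI := grpObjRep hJ
  haveI := isCommMonObj_of_isProper_of_geometricallyIntegral J
  rw [sumMap, comp_prod, valAt_prod hJ, ← prod_diffCl, map_prod]
  simp only [← Category.assoc, valAt_comp_jmap]

theorem clsDiv_divT {T : Over (Spec (CommRingCat.of k))} {n : ℕ} (q : T ⟶ cp f n) :
    clsDiv σ hσ (divT fun i => q ≫ proj f n i) =
      valAt ξ (q ≫ sumMap σ hσ hJ n) * (nrm σ hσ T (uI (origin T σ hσ) ^ n))⁻¹ := by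
  rw [valAt_comp_sumMap hJ, clsDiv, uId_divT, map_mul, map_inv, mul_comm, inv_mul_cancel_left]

/-! ### Tuples in general position -/

variable (f σ hσ) in
/-- The tuples whose divisor is good. -/
def goodTup (n : ℕ) : (cp f n).left.Opens :=
  ⟨goodSet f (cp f n) (clsDiv σ hσ (divT (proj f n)) : PicF.Cl (PicF.XT f (cp f n))),
    isOpen_goodSet (clsDiv_mem σ hσ _).1.1⟩

variable (f) in
/-- The tuples without repetition. -/
def apartTup (n : ℕ) : (cp f n).left.Opens :=
  ⟨⋂ p : Fin n × Fin n, ⋂ (_ : p.1 ≠ p.2), apart (proj f n p.1) (proj f n p.2),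
    isOpen_iInter_of_finite fun _ => isOpen_iInter_of_finite fun _ => isOpen_apart _ _⟩

theorem goodSet_of_mem {T : Over (Spec (CommRingCat.of k))} {n : ℕ} (q : T ⟶ cp f n)
    (hq : ∀ t, q.left t ∈ goodTup f σ hσ n) :
    goodSet f T (clsDiv σ hσ (divT fun i => q ≫ proj f n i) : PicF.Cl (PicF.XT f T)) = Set.univ := by
  rw [← pullObj_divT q, ← mp_clsDiv]
  show goodSet f T (PicF.pullCl _ _) = _
  rw [goodSet_pull q (clsDiv_mem σ hσ _).1.1]
  exact Set.eq_univ_of_forall hq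

theorem disj_of_mem {T : Over (Spec (CommRingCat.of k))} {n : ℕ} (q : T ⟶ cp f n)
    (hq : ∀ t, q.left t ∈ apartTup f n) : Disj fun i => q ≫ proj f n i := fun i l hil t =>
  apart_comp q _ _ t (Set.mem_iInter₂.1 (hq t) (i, l) hil)

variable {g : ℕ} (hg : GenusEq f g) {B : Over (Spec (CommRingCat.of k))} [GrpObj B] [IsCommMonObj B]
  (h : Over.mk f ⟶ B)

include hg hJ in
theorem sum_eq_of_sumMap_eq {T : Over (Spec (CommRingCat.of k))} (q q' : T ⟶ cp f g)
    (hq : ∀ t, q'.left t ∈ goodTup f σ hσ g) (hq' : ∀ t, q'.left t ∈ apartTup f g)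
    (e : q ≫ sumMap σ hσ hJ g = q' ≫ sumMap σ hσ hJ g) :
    q ≫ ∏ i, (proj f g i ≫ h) = q' ≫ ∏ i, (proj f g i ≫ h) := by
  have e2 : clsDiv σ hσ (divT fun i => q ≫ proj f g i) = clsDiv σ hσ (divT fun i => q' ≫ proj f g i) := by
    rw [clsDiv_divT hJ, clsDiv_divT hJ, e]
  have e3 := (existsUnique_clsDiv σ hσ hg (clsDiv_mem σ hσ _) (goodSet_of_mem q' hq)).unique e2 rfl
  have e4 := prod_eq_of_idT_eq h _ _ (disj_of_mem q' hq') (congrArg Subtype.val e3)
  rw [comp_prod, comp_prod]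
  simpa only [Category.assoc] using e4

variable (hgK : ∀ (K : Type u) [Field K] [IsAlgClosed K] (τ : Spec (CommRingCat.of K) ⟶ Spec (CommRingCat.of k)),
  Curv2.genus K (PicF.XT f (Over.mk τ)) = g)

include hgK in
theorem goodTup_nonempty : ((goodTup f σ hσ g : Set (cp f g).left)).Nonempty := by
  let K := AlgebraicClosure k
  let τ : Spec (CommRingCat.of K) ⟶ Spec (CommRingCat.of k) := Spec.map (CommRingCat.ofHom (algebraMap k K))
  let TK : Over (Spec (CommRingCat.of k)) := Over.mk τ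
  haveI := curve_proper (f := f) τ
  haveI := curve_smooth (f := f) τ
  haveI := curve_integral (f := f) τ
  haveI := Groth.L21.RR.isNoetherian_of_proper (X := PicF.XT f TK) K
  have hd := curve_dim (f := f) τ
  obtain ⟨N, hN, hdN, hh⟩ := Groth.L21.Duality.exists_h0_eq_one (k := K) hd (curve_h0 τ) g (hgK K τ).ge
  haveI := Groth.L21.Duality.nontrivial_of_h0_pos (k := K) (L := N) hh.ge
  obtain ⟨φN, hφN⟩ := Groth.L21.RR.exists_hom_ne_zero (L := N)
  obtain ⟨p, hp0, hp⟩ := exists_lift_pw τ (origin TK σ hσ) g N hN hdN ⟨φN, hφN⟩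
  have h1 : Groth.L21.RR.h K 1 N = 0 := by
    have e := hdN
    rw [Curv2.deg, Groth.L21.RR.euler_eq K hd.le (M := N), euler_curve (f := f) τ, hgK K τ, hh] at e
    push_cast at e
    omega
  obtain ⟨n, hn, hnN⟩ := exists_invU (c := PicF.cl N) ⟨_, rfl, hN⟩
  obtain ⟨a, ha⟩ := exists_tuple_of_pw p
  rw [hp0, prod_diffCl] at ha
  have hprod : (∏ i, uI (a i))⁻¹ = n := by
    refine mul_left_cancel (a := uI (origin TK σ hσ) ^ g) (ha.symm.trans (Units.ext ?_))
    rw [Units.val_mul, mul_comm, hnN]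
    exact hp
  refine ⟨(tup a).left (IsLocalRing.closedPoint K), ?_⟩
  have e1 : mp f (tup a) (clsDiv σ hσ (divT (proj f g))) = nrm σ hσ TK n := by
    rw [mp_clsDiv, pullObj_divT, clsDiv, uId_divT, ← map_inv]
    simp only [tup_proj, hprod]
    rfl
  have e2 := goodSet_pull (tup a) (clsDiv_mem σ hσ (divT (proj f g))).1.1
  rw [show PicF.pullCl (PicF.XTmap f (tup a)) (clsDiv σ hσ (divT (proj f g)) : PicF.Cl (PicF.XT f (cp f g))) = _
    from congrArg Units.val e1, goodSet_nrm σ hσ hn, hnN] at e2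
  have hNc := Groth.L16.ProperFinite.isCoh_of_isInvertible hN
  have h2 : IsLocalRing.closedPoint K ∈ goodSet f TK (PicF.cl N) := (mem_goodSet_iff (L := N) rfl _).2
    ⟨(fiberRank_eq_h (K := K) (Y := PicF.XT f TK) hNc 1 _).trans h1,
      (fiberRank_eq_h (K := K) (Y := PicF.XT f TK) hNc 0 _).trans hh⟩
  exact e2.le h2

include σ hσ in
theorem apartTup_pair_nonempty {n : ℕ} (i l : Fin n) (hil : i ≠ l) :
    (apart (proj f n i) (proj f n l)).Nonempty := by
  let K := AlgebraicClosure k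
  let τ : Spec (CommRingCat.of K) ⟶ Spec (CommRingCat.of k) := Spec.map (CommRingCat.ofHom (algebraMap k K))
  let TK : Over (Spec (CommRingCat.of k)) := Over.mk τ
  haveI := curve_proper (f := f) τ
  haveI := curve_smooth (f := f) τ
  haveI := curve_integral (f := f) τ
  have hd := curve_dim (f := f) τ
  let o := origin TK σ hσ
  let P := sec o (IsLocalRing.closedPoint K : TK.left)
  have hP : IsClosed ({P} : Set (PicF.XT f TK)) :=
    isClosed_point (k := K) (X := PicF.XT f TK) (sec o) (sec_proj o)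
  obtain ⟨z, hz⟩ : ({P}ᶜ : Set (PicF.XT f TK)).Nonempty := by
    by_contra hne
    rw [Set.not_nonempty_iff_eq_empty, Set.compl_empty_iff] at hne
    haveI : Subsingleton (PicF.XT f TK) :=
      ⟨fun x y => (Set.eq_univ_iff_forall.1 hne x).trans (Set.eq_univ_iff_forall.1 hne y).symm⟩
    haveI : DiscreteTopology (PicF.XT f TK) := inferInstance
    have := topologicalKrullDim_zero_of_discreteTopology (PicF.XT f TK)
    rw [hd] at this
    exact absurd this (by norm_num)
  haveI : JacobsonSpace ↥(PicF.XT f TK) :=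
    LocallyOfFiniteType.jacobsonSpace (Y := Spec (CommRingCat.of K)) (PicF.XT f TK ↘ Spec (CommRingCat.of K))
  obtain ⟨Q, hQP, hQ⟩ := nonempty_inter_closedPoints ⟨z, hz⟩ hP.isOpen_compl.isLocallyClosed
  let y : TK ⟶ Over.mk f :=
    ptOf (T := TK) (pointOfClosedPoint (PicF.XT f TK ↘ Spec (CommRingCat.of K)) Q hQ) (pointOfClosedPoint_comp _ _ _)
  let a : Fin n → (TK ⟶ Over.mk f) := fun m => if m = i then y else o
  refine ⟨(tup a).left (IsLocalRing.closedPoint K), apart_of_comp (tup a) _ _ _ ?_⟩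
  rw [tup_proj, tup_proj]
  simp only [a, if_true, if_neg hil.symm]
  show sec y _ ≠ P
  rw [sec_ptOf]
  exact fun h => hQP ((pointOfClosedPoint_apply _ Q hQ _).symm.trans h)

include hgK in
/-- Good tuples without repetition exist. -/
theorem mem_open_genericPoint :
    haveI := isIntegral_cp (f := f) g
    genericPoint (cp f g).left ∈ goodTup f σ hσ g ∧ genericPoint (cp f g).left ∈ apartTup f g := by
  haveI := isIntegral_cp (f := f) g
  have hgen := genericPoint_spec (cp f g).left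
  refine ⟨(hgen.mem_open_set_iff (goodTup f σ hσ g).2).2 (by simpa using goodTup_nonempty (σ := σ) (hσ := hσ) hgK), ?_⟩
  refine Set.mem_iInter₂.2 fun p hp => (hgen.mem_open_set_iff (isOpen_apart _ _)).2 ?_
  simpa using apartTup_pair_nonempty (f := f) (σ := σ) (hσ := hσ) p.1 p.2 hp

include hgK in
/-- The sum map is surjective. -/
theorem surjective_sumMap : Surjective (sumMap σ hσ hJ g).left := ⟨fun z => by
  let Ω := AlgebraicClosure (J.left.residueField z)
  let pt : Spec (CommRingCat.of Ω) ⟶ J.left :=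
    Spec.map (CommRingCat.ofHom (algebraMap (J.left.residueField z) Ω)) ≫ J.left.fromSpecResidueField z
  let τ : Spec (CommRingCat.of Ω) ⟶ Spec (CommRingCat.of k) := pt ≫ J.hom
  let b : Over.mk τ ⟶ J := Over.homMk pt rfl
  have hy : valAt ξ b ∈ deg0Sub f σ hσ _ := valAt_mem b
  obtain ⟨v, hv0, hv⟩ := exists_pw_of_isPicZeroCl τ ((isPicZeroCl_iff_degU hy.1.1).2 hy.2)
    (origin (Over.mk τ) σ hσ) (genus_le_one_add τ (hgK Ω τ))
  obtain ⟨a, ha⟩ := exists_tuple_of_pw v
  rw [hv0, prod_diffCl] at ha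
  have e : tup a ≫ sumMap σ hσ hJ g = b := valAt_inj hJ (by
    rw [valAt_comp_sumMap hJ]
    simp only [tup_proj]
    rw [← ha, show mp f v (pwCl (f := f) g) = valAt ξ b from Units.ext hv, nrm_of_mem σ hσ hy.1])
  refine ⟨(tup a).left (IsLocalRing.closedPoint Ω), ?_⟩
  refine (congrArg (fun m : Over.mk τ ⟶ J => m.left (IsLocalRing.closedPoint Ω)) e).trans ?_
  show pt _ = z
  rw [Scheme.Hom.comp_apply]
  exact Scheme.fromSpecResidueField_apply z _⟩

include hg hgK in
/-- Maps on the tuples which are determined by the sums factor through the sum map. -/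
theorem exists_factor [IsProper B.hom] [GeometricallyIntegral B.hom] [Smooth J.hom] :
    ∃ α : J ⟶ B, sumMap σ hσ hJ g ≫ α = ∏ i, (proj f g i ≫ h) := by
  let C := cp f g
  haveI := isProper_cp (f := f) g
  haveI := isIntegral_cp (f := f) g
  let ψ := sumMap σ hσ hJ g
  let Φ := ∏ i, (proj f g i ≫ h)
  haveI := surjective_sumMap hJ hgK
  obtain ⟨hgood, hap⟩ := mem_open_genericPoint (σ := σ) (hσ := hσ) hgK
  let W := goodTup f σ hσ g ⊓ apartTup f g
  have hW : genericPoint C.left ∈ W := ⟨hgood, hap⟩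
  let T₀ := AbDual.ovr C W.ι
  let incl : T₀ ⟶ C := AbDual.ovrHom C W.ι
  let p : T₀.left ⟶ J.left := W.ι ≫ ψ.left
  haveI : Subsingleton ↥(Spec (CommRingCat.of k)) := inferInstanceAs (Subsingleton (PrimeSpectrum k))
  haveI : IsLocallyNoetherian C.left := LocallyOfFiniteType.isLocallyNoetherian C.hom
  haveI : IsIntegral J.left := GeometricallyIntegral.isIntegral_of_subsingleton J.hom
  haveI : LocallyOfFiniteType ψ.left := by
    haveI : LocallyOfFiniteType (ψ.left ≫ J.hom) := by rw [Over.w ψ]; infer_instance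
    exact locallyOfFiniteType_of_comp ψ.left J.hom
  haveI : QuasiCompact ψ.left := by
    haveI : QuasiCompact (ψ.left ≫ J.hom) := by rw [Over.w ψ]; infer_instance
    exact QuasiCompact.of_comp ψ.left J.hom
  obtain ⟨U, hUd, hUf, hUp⟩ := Groth.Agent.S0414.result p
  haveI := hUf; haveI := hUp
  have hopen : IsOpen (p '' (p ⁻¹ᵁ U : Set T₀.left)) := by
    have h1 : IsOpen (Set.range (p ∣_ U)) := (p ∣_ U).isOpenMap.isOpen_range
    have h2 := U.2.isOpenEmbedding_subtypeVal.isOpenMap _ h1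
    convert h2 using 1
    rw [← Set.range_comp]
    ext y
    constructor
    · rintro ⟨x, hx, rfl⟩
      exact ⟨⟨x, hx⟩, morphismRestrict_base_coe p U ⟨x, hx⟩⟩
    · rintro ⟨x, rfl⟩
      exact ⟨x.1, x.2, (morphismRestrict_base_coe p U x).symm⟩
  let V : J.left.Opens := ⟨_, hopen⟩
  have hVU : V ≤ U := by rintro _ ⟨x, hx, rfl⟩; exact hx
  have hne : (V : Set J.left).Nonempty := by
    obtain ⟨y, hy⟩ := hUd.nonempty
    obtain ⟨c, rfl⟩ := ψ.left.surjective y
    have hg0 : genericPoint C.left ∈ ψ.left ⁻¹ᵁ U :=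
      ((genericPoint_spec C.left).mem_open_set_iff (ψ.left ⁻¹ᵁ U).2).2 (by
        rw [Set.univ_inter]
        exact ⟨c, hy⟩)
    exact ⟨_, ⟨_, hW⟩, hg0, rfl⟩
  let q := p ∣_ V
  haveI : Surjective q := ⟨fun y => by
    obtain ⟨x, hx, hxy⟩ := y.2
    exact ⟨⟨x, show p x ∈ V from hxy ▸ y.2⟩, Subtype.ext ((morphismRestrict_base_coe p V _).trans hxy)⟩⟩
  haveI : Flat q := by
    have h1 : Flat (p ∣_ U ∣_ (U.ι ⁻¹ᵁ V)) := MorphismProperty.of_isPullback (P := @Flat)
      (isPullback_morphismRestrict (p ∣_ U) (U.ι ⁻¹ᵁ V)).flip inferInstance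
    refine ((MorphismProperty.arrow_mk_iso_iff (P := @Flat) ?_).1 h1)
    exact morphismRestrictRestrict p U (U.ι ⁻¹ᵁ V) ≪≫ morphismRestrictEq p (by
      refine TopologicalSpace.Opens.ext ?_
      rw [Scheme.Hom.image_preimage_eq_opensRange_inf, Scheme.Opens.opensRange_ι]
      simpa using hVU)
  haveI : QuasiCompact p := by
    haveI : QuasiCompact (p ≫ J.hom) := by
      rw [show p ≫ J.hom = W.ι ≫ C.hom from (Category.assoc _ _ _).trans (congrArg (W.ι ≫ ·) (Over.w ψ))]
      infer_instance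
    exact QuasiCompact.of_comp p J.hom
  haveI : QuasiCompact q :=
    MorphismProperty.of_isPullback (P := @QuasiCompact) (isPullback_morphismRestrict p V).flip inferInstance
  let V₀ := p ⁻¹ᵁ V
  have hkey : ∀ {Z : Scheme.{u}} (g₁ g₂ : Z ⟶ (V₀ : Scheme.{u})), g₁ ≫ q = g₂ ≫ q →
      g₁ ≫ V₀.ι ≫ W.ι ≫ Φ.left = g₂ ≫ V₀.ι ≫ W.ι ≫ Φ.left := by
    intro Z g₁ g₂ e
    have e1 : (g₁ ≫ V₀.ι ≫ W.ι) ≫ ψ.left = (g₂ ≫ V₀.ι ≫ W.ι) ≫ ψ.left := by
      have := congrArg (· ≫ V.ι) e
      simpa only [Category.assoc, q, morphismRestrict_ι, p] using this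
    let T : Over (Spec (CommRingCat.of k)) := Over.mk ((g₁ ≫ V₀.ι ≫ W.ι) ≫ C.hom)
    let a : T ⟶ C := Over.homMk (g₁ ≫ V₀.ι ≫ W.ι) rfl
    let b : T ⟶ C := Over.homMk (g₂ ≫ V₀.ι ≫ W.ι) (by
      show (g₂ ≫ V₀.ι ≫ W.ι) ≫ C.hom = (g₁ ≫ V₀.ι ≫ W.ι) ≫ C.hom
      rw [← Over.w ψ, ← Category.assoc, ← Category.assoc]
      exact congrArg (· ≫ J.hom) e1.symm)
    have hb : ∀ t, b.left t ∈ W := fun t => by
      show (g₂ ≫ V₀.ι ≫ W.ι) t ∈ W
      rw [← Category.assoc, Scheme.Hom.comp_apply]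
      exact ((g₂ ≫ V₀.ι) t).2
    have := congrArg CommaMorphism.left (sum_eq_of_sumMap_eq hJ hg h a b (fun t => (hb t).1) (fun t => (hb t).2)
      (Over.OverMorphism.ext e1))
    exact ((Category.assoc _ _ _).trans (congrArg (g₁ ≫ ·) (Category.assoc _ _ _))).symm.trans
      (this.trans ((Category.assoc _ _ _).trans (congrArg (g₂ ≫ ·) (Category.assoc _ _ _))))
  haveI : EffectiveEpi q := inferInstance
  let α₀ : (V : Scheme.{u}) ⟶ B.left := EffectiveEpi.desc q (V₀.ι ≫ W.ι ≫ Φ.left) hkey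
  have hα₀ : q ≫ α₀ = V₀.ι ≫ W.ι ≫ Φ.left := EffectiveEpi.fac q _ hkey
  have hw : α₀ ≫ B.hom = V.ι ≫ J.hom := by
    rw [← cancel_epi q, ← Category.assoc, hα₀, ← Category.assoc q, morphismRestrict_ι]
    simp only [p, Category.assoc, Over.w]
    rfl
  obtain ⟨α, hαw, hα⟩ := Groth.Agent.S11992.result k J.left J.hom B V hne α₀ hw
  refine ⟨Over.homMk α hαw, Over.OverMorphism.ext ?_⟩
  haveI : Nonempty ↥(V₀ : Scheme.{u}) := by
    obtain ⟨_, x, hx, rfl⟩ := hne
    exact ⟨⟨x, ⟨x, hx, rfl⟩⟩⟩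
  haveI : IsDominant (V₀.ι ≫ W.ι) := ⟨by
    refine dense_iff_inter_open.2 fun O hO hOne => ?_
    have hr : IsOpen (Set.range (V₀.ι ≫ W.ι)) := (V₀.ι ≫ W.ι).isOpenEmbedding.isOpen_range
    exact nonempty_preirreducible_inter hO hr hOne (Set.range_nonempty _)⟩
  refine ext_of_isDominant_of_isSeparated B.hom ?_ (V₀.ι ≫ W.ι) ?_
  · simp only [Over.comp_left, Category.assoc, Over.w, Over.homMk_left, hαw]
  · show (V₀.ι ≫ W.ι) ≫ ψ.left ≫ α = (V₀.ι ≫ W.ι) ≫ Φ.left
    rw [Category.assoc, Category.assoc, ← hα₀, ← hα, ← Category.assoc q, morphismRestrict_ι]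
    simp only [p, Category.assoc]
    rfl

include hg hgK in
/-- The Jacobian is the Albanese variety. -/
theorem existsUnique_albanese [IsProper B.hom] [GeometricallyIntegral B.hom] [Smooth J.hom] (hg0 : 0 < g)
    (hh : origin (𝟙_ (Over (Spec (CommRingCat.of k)))) σ hσ ≫ h = η[B]) :
    letI := grpObjRep hJ
    ∃! α : J ⟶ B, IsMonHom α ∧ jmap σ hσ hJ ≫ α = h := by
  letI := grpObjRep hJ
  haveI := isCommMonObj_of_isProper_of_geometricallyIntegral J
  obtain ⟨α, hα⟩ := exists_factor hJ hg h hgK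
  have ho : ∀ T : Over (Spec (CommRingCat.of k)), origin T σ hσ ≫ h = 1 := fun T => by
    rw [← comp_origin σ hσ (CartesianMonoidalCategory.toUnit T), Category.assoc, hh, Hom.one_def]
  have htup : ∀ {T : Over (Spec (CommRingCat.of k))} (a : Fin g → (T ⟶ Over.mk f)),
      (∏ i, a i ≫ jmap σ hσ hJ) ≫ α = ∏ i, a i ≫ h := fun {T} a => by
    have e := congrArg (tup a ≫ ·) hα
    simp only [sumMap] at e
    rw [← Category.assoc, comp_prod, comp_prod] at e
    simpa only [← Category.assoc, tup_proj] using e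
  have h1 : η[J] ≫ α = η[B] := by
    have e := htup fun _ => origin (𝟙_ (Over (Spec (CommRingCat.of k)))) σ hσ
    simp only [origin_comp_jmap σ hσ hJ, ho, Finset.prod_const_one] at e
    simpa [Hom.one_def] using e
  haveI := Groth.Agent.AV.isMonHom_of_one α h1
  have hj : jmap σ hσ hJ ≫ α = h := by
    obtain ⟨m, rfl⟩ := Nat.exists_eq_add_one.2 hg0
    have e := htup (Fin.cons (𝟙 _) fun _ => origin (Over.mk f) σ hσ)
    simpa [Fin.prod_univ_succ, origin_comp_jmap σ hσ hJ, ho] using e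
  refine ⟨α, ⟨inferInstance, hj⟩, fun β hβ => ?_⟩
  haveI := hβ.1
  have hβ' : sumMap σ hσ hJ g ≫ β = sumMap σ hσ hJ g ≫ α := by
    rw [hα, sumMap]
    refine (map_prod (MonoidHom.mk' (fun y : cp f g ⟶ J => y ≫ β) fun y z => MonObj.mul_comp y z β)
      _ Finset.univ).trans ?_
    refine Finset.prod_congr rfl fun i _ => ?_
    show (proj f g i ≫ jmap σ hσ hJ) ≫ β = _
    rw [Category.assoc, hβ.2]
  haveI := surjective_sumMap hJ hgK
  haveI : Subsingleton ↥(Spec (CommRingCat.of k)) := inferInstanceAs (Subsingleton (PrimeSpectrum k))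
  haveI : IsIntegral J.left := GeometricallyIntegral.isIntegral_of_subsingleton J.hom
  exact Over.OverMorphism.ext (ext_of_isDominant_of_isSeparated B.hom ((Over.w β).trans (Over.w α).symm)
    (sumMap σ hσ hJ g).left (congrArg CommaMorphism.left hβ'))


end Groth.Agent.L26.JacRat
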