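import Groth.Agent.L26.JacRat.Jac
import Groth.Agent.L26.JacRat.Albanese
import Groth.Agent.L26.PicSm.RigZero

/-!
# Genus and dimension of the Jacobian
-/

set_option autoImplicit false
set_option linter.style.haveILetI false
set_option linter.unusedSectionVars false
set_option backward.isDefEq.respectTransparency false
set_option backward.isDefEq.respectTransparency.types false

universe u

open CategoryTheory CategoryTheory.Limits AlgebraicGeometry

noncomputable section

namespace Groth.Agent.L26.JacRat

open Groth.Agent.L26.PicRep Groth.Agent.L26.PicSm Groth.Agent.Elliptic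
attribute [local instance] Groth.L08.Cube.clMonoid Groth.Agent.L26.PicSm.curveOver

variable (k : Type u) [Field k] {X : Scheme.{u}} [X.Over (Spec (CommRingCat.of k))]
  [IsProper (X ↘ Spec (CommRingCat.of k))] [SmoothOfRelativeDimension 1 (X ↘ Spec (CommRingCat.of k))]
  [GeometricallyConnected (X ↘ Spec (CommRingCat.of k))]

local notation "fX" => (X ↘ Spec (CommRingCat.of k))

/-- The genus of the only fibre. -/
theorem genusEq : GenusEq fX (Curv2.genus k X) := fun s => by
  let Ω := AlgebraicClosure ((Spec (CommRingCat.of k)).residueField s)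
  letI := Groth.Agent.Elliptic.fibOver fX s
  have he := euler_extPt (f := fX) (K := Ω) s
  rw [euler_curve (f := fX) (extPt (S := Spec (CommRingCat.of k)) s Ω), genus_geometric k Ω] at he
  haveI := isProper_fibre fX s
  rw [Groth.L21.RR.euler_eq ((Spec (CommRingCat.of k)).residueField s) (dim_fibre fX s).le, h0_fibre fX s] at he
  omega

variable {σ : Spec (CommRingCat.of k) ⟶ X} {hσ : σ ≫ (X ↘ Spec (CommRingCat.of k)) = 𝟙 _}
  {J : Over (Spec (CommRingCat.of k))} {ξ : (deg0Fam (X ↘ Spec (CommRingCat.of k)) σ hσ).obj J}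

/-- The dimension of the Jacobian is the genus. -/
theorem dim_eq_genus (hJ : (deg0Fam fX σ hσ).IsRep J ξ) [Smooth J.hom] :
    topologicalKrullDim J.left = (Curv2.genus k X : WithBot ℕ∞) := by
  have huniv : ∀ (T : Over (Spec (CommRingCat.of k))) (c : PicF.Rig fX σ hσ T),
      FGA.HasFibreDegreeZeroCl fX T c.1 →
        ∃! g : T ⟶ J, PicF.pullCl (PicF.XTmap fX g) (rigOf ξ).1 = c.1 := fun T c hc => by
    obtain ⟨x, hx⟩ := exists_of_rig c hc
    obtain ⟨a, ha, hu⟩ := hJ T x
    exact ⟨a, (congrArg Units.val (congrArg Subtype.val ha)).trans hx, fun b hb =>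
      hu b (deg0Fam_ext (hb.trans hx.symm))⟩
  have hP := isRelPicZeroK σ hσ (rigOf ξ) huniv (hasFibreDegreeZeroCl_iff.2 ξ.2.2)
  let K := AlgebraicClosure k
  let τ : Spec (CommRingCat.of K) ⟶ Spec (CommRingCat.of k) := Spec.map (CommRingCat.ofHom (algebraMap k K))
  have h1 := Groth.Agent.L26.PicSm.dim_pullback τ hP
  rw [genus_geometric k K τ] at h1
  rw [← Groth.Agent.L26.PicSm.dim_baseChange_field k K J.hom (CommRingCat.ofHom (algebraMap k K))
    (pullback.snd J.hom τ) (pullback.fst J.hom τ) (IsPullback.of_hasPullback J.hom τ)]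
  exact h1

end Groth.Agent.L26.JacRat
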