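import Groth.Agent.L26.JacRat.DegD
import Groth.Agent.L26.JacRat.Curve
import Groth.Agent.L18.Frame
import Groth.Agent.L25.GeomIrred
import Groth.Agent.L21.SmoothCurveDim
import Mathlib.AlgebraicGeometry.AlgClosed.Basic
import Groth.Prelude.Def_AbDual

/-!
# Torsion classes of a curve and torsion points of its Jacobian
-/

set_option autoImplicit false
set_option linter.style.haveILetI false
set_option linter.unusedSectionVars false
set_option backward.isDefEq.respectTransparency false
set_option backward.isDefEq.respectTransparency.types false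

universe u

open CategoryTheory CategoryTheory.Limits AlgebraicGeometry MonoidalCategory CartesianMonoidalCategory MonObj GrpObj
open Groth.L25.HomScheme

noncomputable section

namespace Groth.Agent.L26.JacRat

open Groth.Agent.L26.PicRep Groth.Agent.L26.PicSm Groth.Agent.Elliptic
attribute [local instance] Groth.L08.Cube.clMonoid Groth.Agent.L26.PicSm.curveOver

theorem invU_field_eq_one {k : Type u} [Field k] {b : (PicF.Cl (Spec (CommRingCat.of k)))ˣ} (hb : b ∈ invU _) :
    b = 1 := by
  haveI : Subsingleton ↥(Spec (CommRingCat.of k)) := inferInstanceAs (Subsingleton (PrimeSpectrum k))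
  haveI : Nonempty ↥(Spec (CommRingCat.of k)) := inferInstanceAs (Nonempty (PrimeSpectrum k))
  obtain ⟨M, hM, hMi⟩ := hb.1
  obtain ⟨W, e, hW, he⟩ := Groth.L18.Frame.exists_frame hMi (Classical.arbitrary _)
  obtain rfl : W = ⊤ := top_le_iff.1 fun y _ => Subsingleton.elim _ y ▸ hW
  exact Units.ext (hM.symm.trans (AbDualLib.cl_congr (Groth.L08.Cube.nonempty_iso_of_frame_top he).some))

variable {k : Type u} [Field k] {X : Scheme.{u}} [X.Over (Spec (CommRingCat.of k))]
  [IsProper (X ↘ Spec (CommRingCat.of k))] [SmoothOfRelativeDimension 1 (X ↘ Spec (CommRingCat.of k))]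
  [GeometricallyConnected (X ↘ Spec (CommRingCat.of k))]
  {σ : Spec (CommRingCat.of k) ⟶ X} {hσ : σ ≫ (X ↘ Spec (CommRingCat.of k)) = 𝟙 _}

/-- Torsion points of the Jacobian count the torsion classes of the curve. -/
theorem card_torsion_classes {J : Over (Spec (CommRingCat.of k))}
    {ξ : (deg0Fam (X ↘ Spec (CommRingCat.of k)) σ hσ).obj J}
    (hJ : (deg0Fam (X ↘ Spec (CommRingCat.of k)) σ hσ).IsRep J ξ)
    [IsProper J.hom] [GeometricallyIntegral J.hom] {n : ℕ} (hn : n ≠ 0) :
    letI := grpObjRep hJ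
    haveI := isCommMonObj_of_isProper_of_geometricallyIntegral J
    Nat.card {c : PicF.Cl X | ∃ M : Scheme.Modules X, PicF.cl M = c ∧ PicF.IsInvertible M ∧
        Nonempty (CohB1.tensorPow M n ≅ Coh.structureModule X)} =
      Nat.card (AbDual.torsPts J n (onePt k)) := by
  letI := grpObjRep hJ
  haveI := isCommMonObj_of_isProper_of_geometricallyIntegral J
  let e : PicF.XT (X ↘ Spec (CommRingCat.of k)) (onePt k) ⟶ X :=
    pullback.fst (X ↘ Spec (CommRingCat.of k)) (𝟙 (Spec (CommRingCat.of k)))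
  haveI : IsIso e := inferInstanceAs (IsIso (pullback.fst _ _))
  have pow_val : ∀ (a : onePt k ⟶ J) (m : ℕ), valAt ξ (a ^ m) = valAt ξ a ^ m := fun a m => by
    induction m with
    | zero => rw [pow_zero, pow_zero, valAt_one hJ]
    | succ m ih => rw [pow_succ, pow_succ, valAt_mul hJ, ih]
  have hmem : ∀ a : AbDual.torsPts J n (onePt k),
      PicF.pullCl (inv e) (valAt ξ a.1 : PicF.Cl (PicF.XT (X ↘ Spec (CommRingCat.of k)) (onePt k))) ∈
        {c : PicF.Cl X | ∃ M : Scheme.Modules X, PicF.cl M = c ∧ PicF.IsInvertible M ∧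
          Nonempty (CohB1.tensorPow M n ≅ Coh.structureModule X)} := fun a => by
    obtain ⟨L, hL, hLi⟩ := (valAt_mem (ξ := ξ) a.1).1.1.1
    refine ⟨_, congrArg (PicF.pullCl (inv e)) hL, Groth.L18.Ample.isInvertible_pullback (inv e) hLi,
      (PicGrp.cl_eq_cl_iff _ _).1 ?_⟩
    rw [Groth.L08.Cube.cl_tensorPow]
    show (Groth.L08.Cube.pullClHom (inv e) (PicF.cl L)) ^ n = 1
    rw [← map_pow, hL, ← Units.val_pow_eq_pow_val, ← pow_val,
      show a.1 ^ n = 1 from a.2, valAt_one hJ, Units.val_one, map_one]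
  refine (Nat.card_congr (Equiv.ofBijective (fun a => ⟨_, hmem a⟩) ⟨fun a b h => ?_, fun c => ?_⟩)).symm
  · refine Subtype.ext (valAt_inj hJ (Units.ext ?_))
    have h2 := congrArg (PicF.pullCl e) (congrArg Subtype.val h)
    simp only at h2
    rwa [← PicLoc.pullCl_comp, ← PicLoc.pullCl_comp, IsIso.hom_inv_id, PicLoc.pullCl_id, PicLoc.pullCl_id] at h2
  · obtain ⟨c, M, rfl, hM, ⟨i⟩⟩ := c
    obtain ⟨x, hx, hxM⟩ := exists_invU (c := PicF.pullCl e (PicF.cl M))
      ⟨_, rfl, Groth.L18.Ample.isInvertible_pullback e hM⟩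
    have hxn : x ^ n = 1 := Units.ext (by
      rw [Units.val_pow_eq_pow_val, hxM]
      show (Groth.L08.Cube.pullClHom e (PicF.cl M)) ^ n = _
      rw [← map_pow, ← Groth.L08.Cube.cl_tensorPow, AbDualLib.cl_congr i]
      exact map_one _)
    have hdeg : ∀ t, degU (X ↘ Spec (CommRingCat.of k)) (onePt k) x t = 0 := fun t => by
      have h1 := degU_zpow hx (n : ℤ) t
      rw [zpow_natCast, hxn, degU_one] at h1
      exact (mul_eq_zero.1 h1.symm).resolve_left (by exact_mod_cast hn)
    obtain ⟨a, ha, -⟩ := hJ (onePt k) ⟨x, ⟨hx, invU_field_eq_one (map_mem_invU _ hx)⟩, hdeg⟩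
    have hav : valAt ξ a = x := congrArg Subtype.val ha
    refine ⟨⟨a, valAt_inj hJ ?_⟩, Subtype.ext ?_⟩
    · show valAt ξ (a ^ n) = valAt ξ (1 : onePt k ⟶ J)
      rw [pow_val, hav, hxn, valAt_one hJ]
    · show PicF.pullCl (inv e) (valAt ξ a : PicF.Cl (PicF.XT (X ↘ Spec (CommRingCat.of k)) (onePt k))) = PicF.cl M
      rw [hav, hxM, ← PicLoc.pullCl_comp, IsIso.inv_hom_id, PicLoc.pullCl_id]

end Groth.Agent.L26.JacRat

namespace Groth.Agent.L26.JacRat

open Groth.Agent.L26.PicRep Groth.Agent.L26.PicSm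
attribute [local instance] Groth.L08.Cube.clMonoid Groth.Agent.L26.PicSm.curveOver

/-- The Jacobian of an integral curve over an algebraically closed field and its torsion. -/
theorem exists_abelian_torsion (k : Type u) [Field k] [IsAlgClosed k] (X : Scheme.{u})
    [X.Over (Spec (CommRingCat.of k))] [IsIntegral X] [IsProper (X ↘ Spec (CommRingCat.of k))]
    [Smooth (X ↘ Spec (CommRingCat.of k))] (hdim : topologicalKrullDim X = 1) :
    ∃ (J : Over (Spec (CommRingCat.of k))) (_ : GrpObj J) (_ : IsCommMonObj J),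
      IsProper J.hom ∧ Smooth J.hom ∧ GeometricallyIntegral J.hom ∧
      topologicalKrullDim J.left = (Curv2.genus k X : WithBot ℕ∞) ∧
      ∀ n : ℕ, n ≠ 0 → Nat.card {c : PicF.Cl X | ∃ M : Scheme.Modules X, PicF.cl M = c ∧ PicF.IsInvertible M ∧
        Nonempty (CohB1.tensorPow M n ≅ Coh.structureModule X)} = Nat.card (AbDual.torsPts J n (onePt k)) := by
  haveI := Groth.L25.GeomIrred.geometricallyIrreducible_of_isAlgClosed (X ↘ Spec (CommRingCat.of k))
  haveI : GeometricallyConnected (X ↘ Spec (CommRingCat.of k)) := ⟨fun K _ t P p₁ p₂ H => by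
    haveI : IrreducibleSpace ↥P := GeometricallyIrreducible.geometrically_irreducibleSpace
      (f := X ↘ Spec (CommRingCat.of k)) _ _ _ H
    infer_instance⟩
  haveI := Groth.L21.SmoothCurve.smoothOfRelativeDimension_one (X ↘ Spec (CommRingCat.of k)) hdim
  haveI : CompactSpace X := QuasiCompact.compactSpace_of_compactSpace (X ↘ Spec (CommRingCat.of k))
  obtain ⟨x, -, hx⟩ := (isClosed_univ (X := X)).exists_closed_singleton Set.univ_nonempty
  obtain ⟨J, ξ, hJ, hp, hs, hi⟩ := exists_jacobian k (pointOfClosedPoint (X ↘ Spec (CommRingCat.of k)) x hx)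
    (pointOfClosedPoint_comp _ _ _)
  letI := grpObjRep hJ
  exact ⟨J, inferInstance, isCommMonObj_of_isProper_of_geometricallyIntegral J, hp, hs, hi, dim_eq_genus k hJ,
    fun n hn => card_torsion_classes hJ hn⟩

end Groth.Agent.L26.JacRat
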