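import Groth.Agent.L08.Cube.AmpleDiv
import Groth.Agent.L22.Div.ComplAffine
import Groth.Agent.L08.Cube.SmoothStalk
import Groth.Agent.L10.RegularUFD
import Mathlib.AlgebraicGeometry.Group.Abelian

/-!
# Abelian varieties are quasi-projective
-/

set_option autoImplicit false
set_option linter.style.haveILetI false
set_option backward.isDefEq.respectTransparency false
set_option backward.isDefEq.respectTransparency.types false

universe u

open CategoryTheory CategoryTheory.Limits MonoidalCategory CartesianMonoidalCategory AlgebraicGeometry TopologicalSpace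

noncomputable section

namespace Groth.Agent.L26.JacRat

variable {k : Type u} [Field k] {A : Over (Spec (CommRingCat.of k))} [GrpObj A] [IsProper A.hom]
  [GeometricallyIntegral A.hom]

variable (A) in
/-- An abelian variety has an ample invertible sheaf. -/
theorem exists_isAmple : ∃ L : A.left.Modules, CohB1.IsAmple L := by
  haveI : Smooth A.hom :=
    haveI : GrpObj (Over.mk A.hom) := inferInstanceAs (GrpObj A)
    smooth_of_grpObj A.hom
  haveI : IsIntegral A.left := GeometricallyIntegral.isIntegral_of_subsingleton A.hom
  haveI : A.left.IsSeparated := ⟨by rw [← Limits.terminal.comp_from A.hom]; infer_instance⟩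
  haveI : IsLocallyNoetherian A.left := LocallyOfFiniteType.isLocallyNoetherian A.hom
  haveI : CompactSpace A.left := QuasiCompact.compactSpace_of_compactSpace A.hom
  haveI : IsNoetherian A.left := {}
  obtain ⟨U, hU, haU, -⟩ := exists_isAffineOpen_mem_and_subset (x := genericPoint A.left)
    (U := (⊤ : A.left.Opens)) trivial
  haveI := Groth.L22.Div.isAffineHom_ι_of_inf (fun V W hV hW => hV.inf hW) hU
  obtain ⟨D, hD, hDs⟩ := Groth.L22.Div.exists_effCartier_compl U (U.2.dense ⟨_, haU⟩) fun x _ => by
    haveI := Groth.L08.Cube.isRegularLocalRing_of_smooth A.hom x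
    exact ⟨Groth.L01.isDomain_of_regular _, Groth.L10.RegUFD.isUFD _⟩
  obtain ⟨L, s, hL, -, hs⟩ := Groth.L08.Cube.exists_section_of_effCartier D hD
  have hgl : CohB1.genLocus L s = U := SetLike.coe_injective (by rw [hs, hDs, compl_compl])
  exact ⟨L, Groth.L08.Cube.isAmple_of_affine_genLocus L hL s (by rw [hgl]; exact hU)
    ⟨_, by rw [hgl]; exact haU⟩⟩
end Groth.Agent.L26.JacRat
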