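import Groth.Agent.L26.JacRat.Fam
import Groth.Agent.L26.PicRep.Charts

/-!
# Charts of degree zero classes relative to a twisting class
-/

set_option autoImplicit false
set_option linter.style.haveILetI false
set_option linter.unusedSectionVars false
set_option backward.isDefEq.respectTransparency false
set_option backward.isDefEq.respectTransparency.types false

universe u

open CategoryTheory CategoryTheory.Limits AlgebraicGeometry MonoidalCategory CartesianMonoidalCategory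
open Groth.L25.HomScheme

noncomputable section

namespace Groth.Agent.L26.JacRat

open Groth.Agent.L26.PicRep
attribute [local instance] Groth.L08.Cube.clMonoid

variable {X S : Scheme.{u}} {f : X ⟶ S} [IsProper f] [SmoothOfRelativeDimension 1 f] [GeometricallyConnected f]
  (σ : S ⟶ X) (hσ : σ ≫ f = 𝟙 S) {g : ℕ} {H : Over S} (Z : HilbD.Obj f g H) {P : Over S}
  {ε : (PicF.Cl (PicF.XT f P))ˣ} (hε : ε ∈ rigSub f σ hσ P)

/-- The twisted class of the divisor. -/
def twCls (ε : (PicF.Cl (PicF.XT f P))ˣ) : (PicF.Cl (PicF.XT f (H ⊗ P)))ˣ :=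
  mp f (fst H P) (clsDiv σ hσ Z) * (mp f (snd H P) ε)⁻¹

include hε in
theorem twCls_mem : twCls σ hσ Z ε ∈ rigSub f σ hσ (H ⊗ P) :=
  (rigSub f σ hσ _).mul_mem (mp_mem σ hσ _ (clsDiv_mem σ hσ Z))
    ((rigSub f σ hσ _).inv_mem (mp_mem σ hσ _ hε))

/-- The open of good divisors of matching degree. -/
def twOpen : (H ⊗ P).left.Opens :=
  ⟨goodSet f (H ⊗ P) (mp f (fst H P) (clsDiv σ hσ Z) : PicF.Cl (PicF.XT f (H ⊗ P))) ∩
      {b | degU f (H ⊗ P) (twCls σ hσ Z ε) b = 0},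
    (isOpen_goodSet (mp_mem σ hσ _ (clsDiv_mem σ hσ Z)).1.1).inter
      ((isLocallyConstant_degU (twCls_mem σ hσ Z hε).1) {0})⟩

/-- The chart. -/
abbrev twObj : Over S := AbDual.ovr (H ⊗ P) (twOpen σ hσ Z hε).ι

/-- The inclusion of the chart. -/
abbrev twIncl : twObj σ hσ Z hε ⟶ H ⊗ P := AbDual.ovrHom (H ⊗ P) (twOpen σ hσ Z hε).ι

/-- The element on the chart. -/
def twEl : (overFam (deg0Fam f σ hσ) P).obj (twObj σ hσ Z hε) :=
  (⟨mp f (twIncl σ hσ Z hε) (twCls σ hσ Z ε), mp_mem σ hσ _ (twCls_mem σ hσ Z hε), fun t => by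
      rw [degU_mp _ (twCls_mem σ hσ Z hε).1]
      exact t.2.2⟩,
    twIncl σ hσ Z hε ≫ snd H P)

variable {T T' : Over S}

theorem mp_twEl (a : T ⟶ twObj σ hσ Z hε) :
    mp f a (twEl σ hσ Z hε).1.1 * mp f (a ≫ (twEl σ hσ Z hε).2) ε =
      clsDiv σ hσ (Groth.L02.Hilb.pullObj f (a ≫ twIncl σ hσ Z hε ≫ fst H P) Z) := by
  show mp f a (mp f (twIncl σ hσ Z hε) (mp f (fst H P) (clsDiv σ hσ Z) * (mp f (snd H P) ε)⁻¹)) *
    mp f (a ≫ twIncl σ hσ Z hε ≫ snd H P) ε = _
  rw [map_mul, map_mul, map_inv, map_inv, mp_comp a (twIncl σ hσ Z hε ≫ snd H P),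
    mp_comp (twIncl σ hσ Z hε) (snd H P), inv_mul_cancel_right, ← mp_comp, ← mp_comp, mp_clsDiv, Category.assoc]

theorem good_comp_tw (a : T ⟶ twObj σ hσ Z hε) :
    goodSet f T (clsDiv σ hσ (Groth.L02.Hilb.pullObj f (a ≫ twIncl σ hσ Z hε ≫ fst H P) Z) :
      PicF.Cl (PicF.XT f T)) = Set.univ := by
  refine Set.eq_univ_iff_forall.2 fun t => ?_
  rw [← mp_clsDiv, ← Category.assoc, mp_comp]
  show t ∈ goodSet f T (PicF.pullCl _ _)
  rw [goodSet_pull _ (mp_mem σ hσ _ (clsDiv_mem σ hσ Z)).1.1]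
  exact (a.left t).2.1

variable (hg : GenusEq f g) (hZ : HilbD.IsUniversal f g H Z)

include hg hZ in
theorem twEl_inj (a b : T ⟶ twObj σ hσ Z hε)
    (h : (overFam (deg0Fam f σ hσ) P).res a (twEl σ hσ Z hε) =
      (overFam (deg0Fam f σ hσ) P).res b (twEl σ hσ Z hε)) : a = b := by
  have h1 : mp f a (twEl σ hσ Z hε).1.1 = mp f b (twEl σ hσ Z hε).1.1 :=
    congrArg Subtype.val (congrArg Prod.fst h)
  have h2 : a ≫ (twEl σ hσ Z hε).2 = b ≫ (twEl σ hσ Z hε).2 := congrArg Prod.snd h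
  have e : clsDiv σ hσ (Groth.L02.Hilb.pullObj f (a ≫ twIncl σ hσ Z hε ≫ fst H P) Z) =
      clsDiv σ hσ (Groth.L02.Hilb.pullObj f (b ≫ twIncl σ hσ Z hε ≫ fst H P) Z) := by
    rw [← mp_twEl, ← mp_twEl, h1, h2]
  have e2 := (existsUnique_clsDiv σ hσ hg (clsDiv_mem σ hσ _) (good_comp_tw σ hσ Z hε b)).unique e rfl
  have e3 := Groth.L02.Hilb.hom_ext_of_isUniversal f hZ _ _ (congrArg Subtype.val e2)
  have e4 : a ≫ twIncl σ hσ Z hε = b ≫ twIncl σ hσ Z hε := by
    refine CartesianMonoidalCategory.hom_ext _ _ ?_ ?_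
    · rw [Category.assoc, Category.assoc]; exact e3
    · rw [Category.assoc, Category.assoc]; exact h2
  exact Over.OverMorphism.ext ((cancel_mono (twOpen σ hσ Z hε).ι).1 (congrArg CommaMorphism.left e4))

/-- The locus where an element lies in the chart. -/
def twLocus (x : (overFam (deg0Fam f σ hσ) P).obj T) : T.left.Opens :=
  ⟨goodSet f T ((x.1.1 * mp f x.2 ε : (PicF.Cl (PicF.XT f T))ˣ) : PicF.Cl (PicF.XT f T)),
    isOpen_goodSet ((invU _).mul_mem x.1.2.1.1 (mp_mem σ hσ x.2 hε).1).1⟩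

include hg hZ in
theorem tw_factor_iff (x : (overFam (deg0Fam f σ hσ) P).obj T) (q : T' ⟶ T) :
    (∃ h : T' ⟶ twObj σ hσ Z hε,
        (overFam (deg0Fam f σ hσ) P).res h (twEl σ hσ Z hε) = (overFam (deg0Fam f σ hσ) P).res q x) ↔
      Set.range q.left ⊆ (twLocus σ hσ hε x : Set T.left) := by
  have hxi : x.1.1 * mp f x.2 ε ∈ invU _ := (invU _).mul_mem x.1.2.1.1 (mp_mem σ hσ x.2 hε).1
  have hpre : goodSet f T' ((mp f q x.1.1 * mp f (q ≫ x.2) ε : (PicF.Cl (PicF.XT f T'))ˣ) :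
      PicF.Cl (PicF.XT f T')) = q.left ⁻¹' (twLocus σ hσ hε x : Set T.left) := by
    rw [mp_comp, ← map_mul]
    exact goodSet_pull q hxi.1
  constructor
  · rintro ⟨h, hh⟩ _ ⟨t, rfl⟩
    have e := good_comp_tw σ hσ Z hε h
    rw [← mp_twEl σ hσ Z hε h,
      show mp f h (twEl σ hσ Z hε).1.1 = mp f q x.1.1 from congrArg Subtype.val (congrArg Prod.fst hh),
      show h ≫ (twEl σ hσ Z hε).2 = q ≫ x.2 from congrArg Prod.snd hh, hpre] at e
    exact Set.eq_univ_iff_forall.1 e t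
  · intro hq
    have hgood : goodSet f T' ((mp f q x.1.1 * mp f (q ≫ x.2) ε : (PicF.Cl (PicF.XT f T'))ˣ) :
        PicF.Cl (PicF.XT f T')) = Set.univ := by
      rw [hpre]
      exact Set.eq_univ_iff_forall.2 fun t => hq ⟨t, rfl⟩
    obtain ⟨Z', hZ', -⟩ := existsUnique_clsDiv σ hσ hg
      ((rigSub f σ hσ T').mul_mem (mp_mem σ hσ q x.1.2.1) (mp_mem σ hσ (q ≫ x.2) hε)) hgood
    obtain ⟨a, ha, -⟩ := hZ T' Z'
    have hpull : Groth.L02.Hilb.pullObj f a Z = Z' := Subtype.ext ha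
    have hcls : mp f a (clsDiv σ hσ Z) = mp f q x.1.1 * mp f (q ≫ x.2) ε := by rw [mp_clsDiv, hpull, hZ']
    let l : T' ⟶ H ⊗ P := lift a (q ≫ x.2)
    have hl1 : mp f l (mp f (fst H P) (clsDiv σ hσ Z)) = mp f q x.1.1 * mp f (q ≫ x.2) ε := by
      rw [← mp_comp, lift_fst, hcls]
    have hl2 : mp f l (twCls σ hσ Z ε) = mp f q x.1.1 := by
      rw [twCls, map_mul, map_inv, hl1, ← mp_comp l (snd H P), lift_snd, mul_inv_cancel_right]
    have hrange : Set.range l.left ⊆ Set.range (twOpen σ hσ Z hε).ι := by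
      rintro _ ⟨t, rfl⟩
      rw [Scheme.Opens.range_ι]
      refine ⟨?_, ?_⟩
      · have e1 := goodSet_pull l (mp_mem σ hσ (fst H P) (clsDiv_mem σ hσ Z)).1.1
        rw [show PicF.pullCl (PicF.XTmap f l)
          (mp f (fst H P) (clsDiv σ hσ Z) : PicF.Cl (PicF.XT f (H ⊗ P))) = _ from congrArg Units.val hl1,
          hgood] at e1
        exact Set.eq_univ_iff_forall.1 e1.symm t
      · show degU f (H ⊗ P) (twCls σ hσ Z ε) (l.left t) = 0
        rw [← degU_mp l (twCls_mem σ hσ Z hε).1 t, hl2, degU_mp q x.1.2.1.1, x.1.2.2]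
    let h : T' ⟶ twObj σ hσ Z hε := Over.homMk (IsOpenImmersion.lift (twOpen σ hσ Z hε).ι l.left hrange) (by
      show _ ≫ (twOpen σ hσ Z hε).ι ≫ (H ⊗ P).hom = T'.hom
      rw [IsOpenImmersion.lift_fac_assoc]
      exact Over.w l)
    have hh : h ≫ twIncl σ hσ Z hε = l := Over.OverMorphism.ext (IsOpenImmersion.lift_fac _ _ _)
    refine ⟨h, Prod.ext (Subtype.ext ?_) ?_⟩
    · show mp f h (mp f (twIncl σ hσ Z hε) (twCls σ hσ Z ε)) = mp f q x.1.1
      rw [← mp_comp, hh, hl2]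
    · show h ≫ twIncl σ hσ Z hε ≫ snd H P = q ≫ x.2
      rw [← Category.assoc, hh, lift_snd]

variable {ι : Type u} (e : ι → (PicF.Cl (PicF.XT f P))ˣ) (he : ∀ i, e i ∈ rigSub f σ hσ P)

include hg hZ in
/-- Covering charts give a representing object over `P` with a cover by the charts. -/
theorem exists_isRepOn_of_charts (ha : ∀ (T : Over S) (U : T.left.Opens), IsIso ((PicF.XTproj f T).app U))
    (hcov : ∀ (T : Over S) (x : (overFam (deg0Fam f σ hσ) P).obj T) (t : T.left),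
      ∃ i, t ∈ twLocus σ hσ (he i) x) :
    ∃ (A : Over S) (r : A ⟶ P) (ξ : (deg0Fam f σ hσ).obj A), (deg0Fam f σ hσ).IsRepOn r ξ ∧
      ∃ c : ∀ i, twObj σ hσ Z (he i) ⟶ A, (∀ i, c i ≫ r = twIncl σ hσ Z (he i) ≫ snd H P) ∧
        IsOpenFamily (fun i => twObj σ hσ Z (he i)) c := by
  let F := overFam (deg0Fam f σ hσ) P
  have hs : F.ZarSep := zarSep_overFam (zarSep_deg0 ha)
  have hloc : ∀ (T : Over S) (x : F.obj T) (i : ι) (W : T.left.Opens),
      W ≤ twLocus σ hσ (he i) x → ∃ h : AbDual.ovr T W.ι ⟶ twObj σ hσ Z (he i),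
        F.res h (twEl σ hσ Z (he i)) = F.res (AbDual.ovrHom T W.ι) x :=
    fun T x i W hW => (tw_factor_iff σ hσ Z (he i) hg hZ x _).2 (by
      show Set.range W.ι ⊆ _
      rw [Scheme.Opens.range_ι]; exact hW)
  haveI hsmall : ∀ T, Small.{u} (F.obj T) := fun T => by
    let D := Σ (i : ι) (W : T.left.Opens), (AbDual.ovr T W.ι ⟶ twObj σ hσ Z (he i))
    let Φ : F.obj T → Set D := fun x =>
      {d | F.res d.2.2 (twEl σ hσ Z (he d.1)) = F.res (AbDual.ovrHom T d.2.1.ι) x}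
    refine small_of_injective (f := Φ) fun x y hxy => ?_
    choose i hi using hcov T x
    have hW : IsOpenFamily (fun t : T.left => AbDual.ovr T (twLocus σ hσ (he (i t)) x).ι)
        (fun t => AbDual.ovrHom T (twLocus σ hσ (he (i t)) x).ι) := by
      refine ⟨fun t => inferInstanceAs (IsOpenImmersion (twLocus σ hσ (he (i t)) x).ι), fun t => ⟨t, ?_⟩⟩
      show t ∈ Set.range (twLocus σ hσ (he (i t)) x).ι
      rw [Scheme.Opens.range_ι]; exact hi t
    refine hs T _ _ _ hW x y fun t => ?_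
    obtain ⟨h, hh⟩ := hloc T x (i t) _ le_rfl
    have hmem : (⟨i t, twLocus σ hσ (he (i t)) x, h⟩ : D) ∈ Φ x := hh
    rw [hxy] at hmem
    exact hh.symm.trans hmem
  obtain ⟨A, η₀, hη₀⟩ := Groth.L02.Hilb.exists_rep_openCharts (shrinkFam F)
    (zarSep_shrink hs) (zarGlue_shrink (zarGlue_overFam (zarGlue_deg0 ha)))
    (fun i => twObj σ hσ Z (he i)) (fun i => equivShrink _ (twEl σ hσ Z (he i)))
    (fun i T a b hab => by
      have h := (equivShrink _).injective hab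
      rw [Equiv.symm_apply_apply] at h
      exact twEl_inj σ hσ Z (he i) hg hZ a b h)
    (fun i T x => ⟨twLocus σ hσ (he i) ((equivShrink _).symm x), fun T' q => by
      rw [← tw_factor_iff σ hσ Z (he i) hg hZ]
      refine exists_congr fun h => ?_
      show equivShrink _ (F.res h ((equivShrink _).symm (equivShrink _ _))) = equivShrink _ _ ↔ _
      rw [Equiv.symm_apply_apply, EmbeddingLike.apply_eq_iff_eq]⟩)
    (fun T x t => by
      obtain ⟨i, hi⟩ := hcov T ((equivShrink _).symm x) t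
      let W := twLocus σ hσ (he i) ((equivShrink _).symm x)
      obtain ⟨h, hh⟩ := hloc T _ i W le_rfl
      refine ⟨i, AbDual.ovr T W.ι, AbDual.ovrHom T W.ι, inferInstanceAs (IsOpenImmersion W.ι), ?_, h, ?_⟩
      · show t ∈ Set.range W.ι
        rw [Scheme.Opens.range_ι]; exact hi
      · show equivShrink _ (F.res h ((equivShrink _).symm (equivShrink _ _))) = equivShrink _ _
        rw [Equiv.symm_apply_apply, hh])
  have hη := isRep_of_shrink hη₀
  let η := (equivShrink _).symm η₀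
  choose c hc using fun i => (hη _ (twEl σ hσ Z (he i))).exists
  refine ⟨A, η.2, η.1, isRepOn_of_overFam hη, c, fun i => congrArg Prod.snd (hc i), ⟨fun i => ?_, fun t => ?_⟩⟩
  · let W := twLocus σ hσ (he i) η
    obtain ⟨b, hb⟩ := hloc A η i W le_rfl
    have hbc : b ≫ c i = AbDual.ovrHom A W.ι := hη.ext (by rw [F.res_comp, hc i, hb])
    have hrange : Set.range (c i).left ⊆ Set.range W.ι := by
      rw [Scheme.Opens.range_ι]
      exact (tw_factor_iff σ hσ Z (he i) hg hZ η (c i)).1 ⟨𝟙 _, by rw [F.res_id]; exact (hc i).symm⟩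
    let c' : twObj σ hσ Z (he i) ⟶ AbDual.ovr A W.ι :=
      Over.homMk (IsOpenImmersion.lift W.ι (c i).left hrange) (by
        show _ ≫ W.ι ≫ A.hom = _
        rw [IsOpenImmersion.lift_fac_assoc]
        exact Over.w (c i))
    have hc' : c' ≫ AbDual.ovrHom A W.ι = c i := Over.OverMorphism.ext (IsOpenImmersion.lift_fac _ _ _)
    have h1 : c' ≫ b = 𝟙 _ := twEl_inj σ hσ Z (he i) hg hZ _ _ (by
      show F.res (c' ≫ b) _ = F.res (𝟙 _) _
      rw [F.res_comp, hb, ← F.res_comp, hc', hc i, F.res_id])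
    haveI : Mono (AbDual.ovrHom A W.ι) := by
      haveI : Mono (AbDual.ovrHom A W.ι).left := inferInstanceAs (Mono W.ι)
      exact Over.mono_of_mono_left _
    have h2 : b ≫ c' = 𝟙 _ := by
      rw [← cancel_mono (AbDual.ovrHom A W.ι), Category.assoc, hc', hbc, Category.id_comp]
    haveI : IsIso c'.left := ⟨⟨b.left, congrArg CommaMorphism.left h1, congrArg CommaMorphism.left h2⟩⟩
    rw [show (c i).left = c'.left ≫ W.ι from (congrArg CommaMorphism.left hc').symm]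
    infer_instance
  · obtain ⟨i, hi⟩ := hcov A η t
    obtain ⟨b, hb⟩ := hloc A η i _ le_rfl
    have hbc : b ≫ c i = AbDual.ovrHom A (twLocus σ hσ (he i) η).ι := hη.ext (by rw [F.res_comp, hc i, hb])
    exact ⟨i, b.left ⟨t, hi⟩, congrArg (fun m : AbDual.ovr A (twLocus σ hσ (he i) η).ι ⟶ A => m.left ⟨t, hi⟩) hbc⟩

end Groth.Agent.L26.JacRat
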