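import Groth.Agent.L26.PicSm.RigZero
import Groth.Agent.L26.Pic0.DegreeFun
import Groth.Agent.L21.Duality.Deg

/-!
# Degrees of classes on the fibres of a family of curves
-/

set_option autoImplicit false
set_option linter.style.haveILetI false
set_option linter.unusedSectionVars false
set_option backward.isDefEq.respectTransparency false
set_option backward.isDefEq.respectTransparency.types false

universe u

open CategoryTheory CategoryTheory.Limits AlgebraicGeometry
open Groth.Agent.AbDualLib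

noncomputable section

namespace Groth.Agent.L26.JacRat

open Groth.Agent.L26.PicRep Groth.Agent.L26.PicSm
attribute [local instance] Groth.L08.Cube.clMonoid Groth.Agent.Elliptic.fibOver

variable {X S : Scheme.{u}} (f : X ⟶ S) [IsProper f] [SmoothOfRelativeDimension 1 f] [GeometricallyConnected f]
  {T T' : Over S}

/-- The degree of a class on the fibre at a point. -/
def degU (T : Over S) (x : (PicF.Cl (PicF.XT f T))ˣ) (t : T.left) : ℤ :=
  DegreeFun.deg (PicF.XTproj f T) (Quot.out (x : PicF.Cl (PicF.XT f T))) t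

variable {f}

theorem degU_eq {x : (PicF.Cl (PicF.XT f T))ˣ} {L : (PicF.XT f T).Modules}
    (h : PicF.cl L = (x : PicF.Cl (PicF.XT f T))) (t : T.left) :
    degU f T x t = DegreeFun.deg (PicF.XTproj f T) L t := by
  obtain ⟨e⟩ := (PicGrp.cl_eq_cl_iff _ _).1 ((Quot.out_eq (x : PicF.Cl (PicF.XT f T))).trans h.symm)
  exact DegreeFun.deg_congr _ e t

theorem degU_eq_curv {x : (PicF.Cl (PicF.XT f T))ˣ} {L : (PicF.XT f T).Modules}
    (h : PicF.cl L = (x : PicF.Cl (PicF.XT f T))) (t : T.left) :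
    degU f T x t = Curv2.deg (T.left.residueField t) ((PicF.XTproj f T).fiber t)
      ((Scheme.Modules.pullback ((PicF.XTproj f T).fiberι t)).obj L) 1 := by
  rw [degU_eq h, Curv2.deg, Nat.cast_one, one_mul, ← Groth.Agent.Elliptic.eulerLE_eq (PicF.XTproj f T) t,
    ← Groth.Agent.Elliptic.eulerLE_eq (PicF.XTproj f T) t]
  rfl

theorem degU_mp (q : T' ⟶ T) {x : (PicF.Cl (PicF.XT f T))ˣ} (hx : x ∈ invU _) (t : T'.left) :
    degU f T' (mp f q x) t = degU f T x (q.left t) := by
  obtain ⟨L, hL, hLi⟩ := hx.1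
  rw [degU_eq (L := (Scheme.Modules.pullback (PicF.XTmap f q)).obj L)
    (show PicF.cl _ = PicF.pullCl (PicF.XTmap f q) (x : PicF.Cl (PicF.XT f T)) by rw [← hL]; rfl), degU_eq hL]
  exact DegreeFun.deg_baseChange (PicF.XTproj f T) (Groth.L02.Hilb.isPullback_XTmap f q) hLi t

theorem degU_one (t : T.left) : degU f T 1 t = 0 := by
  rw [degU_eq_curv (x := 1) (L := Coh.structureModule _) rfl,
    Groth.L21.RR.deg_congr (T.left.residueField t) (Groth.L29.LocFree.pullbackUnitIso _) 1]
  simp [Curv2.deg]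

theorem degU_mul {x y : (PicF.Cl (PicF.XT f T))ˣ} (hx : x ∈ invU _) (hy : y ∈ invU _) (t : T.left) :
    degU f T (x * y) t = degU f T x t + degU f T y t := by
  obtain ⟨L, hL, hLi⟩ := hx.1
  obtain ⟨M, hM, hMi⟩ := hy.1
  let q := PicF.XTproj f T
  haveI := Groth.Agent.Elliptic.isProper_fibre q t
  haveI := Groth.Agent.Elliptic.smooth_fibre q t
  haveI : GeometricallyConnected (q.fiberToSpecResidueField t) :=
    inferInstanceAs (GeometricallyConnected (pullback.snd q _))
  haveI : ConnectedSpace ↥(q.fiber t) :=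
    GeometricallyConnected.connectedSpace_of_subsingleton (q.fiberToSpecResidueField t)
  haveI : IsIntegral (q.fiber t) := Groth.L12.HypSq.isIntegral (k := T.left.residueField t) (C := q.fiber t)
  rw [degU_eq_curv (x := x * y) (L := CohB1.tensorMod L M) (by rw [Units.val_mul, ← hL, ← hM]; rfl),
    degU_eq_curv hL, degU_eq_curv hM,
    Groth.L21.RR.deg_congr (T.left.residueField t) (Groth.L29.DC.PullTensor.pullTensor (q.fiberι t) L M).symm 1]
  exact Groth.L21.Duality.deg_tensor (Groth.Agent.Elliptic.dim_fibre q t)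
    (Groth.L18.Ample.isInvertible_pullback _ hLi) (Groth.L18.Ample.isInvertible_pullback _ hMi)

theorem degU_inv {x : (PicF.Cl (PicF.XT f T))ˣ} (hx : x ∈ invU _) (t : T.left) :
    degU f T x⁻¹ t = - degU f T x t := by
  have h := degU_mul hx ((invU _).inv_mem hx) t
  rw [mul_inv_cancel, degU_one] at h
  omega

theorem isLocallyConstant_degU {x : (PicF.Cl (PicF.XT f T))ˣ} (hx : x ∈ invU _) :
    IsLocallyConstant (degU f T x) := by
  obtain ⟨L, hL, hLi⟩ := hx.1
  haveI := smooth_XT (f := f) T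
  rw [show degU f T x = DegreeFun.deg (PicF.XTproj f T) L from funext fun t => degU_eq hL t]
  exact DegreeFun.isLocallyConstant_deg _ (fun s => (Groth.Agent.Elliptic.dim_fibre _ s).le) hLi

theorem hasFibreDegreeZeroCl_iff {x : (PicF.Cl (PicF.XT f T))ˣ} :
    FGA.HasFibreDegreeZeroCl f T (x : PicF.Cl (PicF.XT f T)) ↔ ∀ t, degU f T x t = 0 := by
  constructor
  · rintro ⟨L, hL, h⟩ t
    rw [degU_eq_curv hL]
    exact (hasFibreDegreeZero_iff L).1 h t
  · intro h
    refine ⟨Quot.out (x : PicF.Cl (PicF.XT f T)), Quot.out_eq _, (hasFibreDegreeZero_iff _).2 fun t => ?_⟩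
    rw [← degU_eq_curv (Quot.out_eq _) t]
    exact h t

theorem isPicZeroCl_iff_degU {x : (PicF.Cl (PicF.XT f T))ˣ} (hx : x ∈ invU _) :
    AbDual.IsPicZeroCl f T (x : PicF.Cl (PicF.XT f T)) ↔ ∀ t, degU f T x t = 0 := by
  rw [PicSm.isPicZeroCl_iff, hasFibreDegreeZeroCl_iff, and_iff_right hx.1]

variable (σ : S ⟶ X) (hσ : σ ≫ f = 𝟙 S)

theorem degU_nrm {x : (PicF.Cl (PicF.XT f T))ˣ} (hx : x ∈ invU _) (t : T.left) :
    degU f T (nrm σ hσ T x) t = degU f T x t := by
  obtain ⟨L, hL, hLi⟩ := hx.1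
  obtain ⟨M, hM, hMi⟩ := (nrm_mem σ hσ hx).1.1
  have e := pullCl_fiberι_nrm σ hσ hx t
  rw [← hM, ← hL] at e
  obtain ⟨i⟩ := (PicGrp.cl_eq_cl_iff _ _).1 e
  rw [degU_eq_curv hM, degU_eq_curv hL, Groth.L21.RR.deg_congr (T.left.residueField t) i 1]

end Groth.Agent.L26.JacRat
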