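import Groth.Agent.L26.JacRat.GoodPts
import Groth.Agent.S12416
import Groth.Agent.S4420
import Groth.Agent.L18.AmpleOps

/-!
# The Picard scheme of a given degree for a curve with a rational point
-/

set_option autoImplicit false
set_option linter.style.haveILetI false
set_option linter.unusedSectionVars false
set_option backward.isDefEq.respectTransparency false
set_option backward.isDefEq.respectTransparency.types false

universe u

open CategoryTheory CategoryTheory.Limits AlgebraicGeometry MonoidalCategory CartesianMonoidalCategory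
open Groth.L25.HomScheme

noncomputable section

namespace Groth.Agent.L26.JacRat

open Groth.Agent.L26.PicRep Groth.Agent.L26.PicSm Groth.Agent.Elliptic
attribute [local instance] Groth.L08.Cube.clMonoid Groth.Agent.L26.PicSm.curveOver

/-- An abelian variety is projective over the ground field. -/
theorem isHProjective_of_abelian {k : Type u} [Field k] (A : Over (Spec (CommRingCat.of k))) [GrpObj A]
    [IsProper A.hom] [GeometricallyIntegral A.hom] : RelProj.IsHProjective A.hom := by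
  obtain ⟨L, hL⟩ := exists_isAmple A
  have h1 : RelProj.IsProjective A.hom :=
    Groth.Agent.S12416.result A.hom ⟨inferInstance, inferInstance, L, Groth.L18.Ample.isRelAmple_of_isAmple hL⟩
  exact (Groth.Agent.S4420.result ⟨_, Groth.L18.Ample.isAmple_structureModule⟩ A.hom).1 h1

section Curve

variable {k : Type u} [Field k] {X : Scheme.{u}} {f : X ⟶ Spec (CommRingCat.of k)} [IsProper f]
  [SmoothOfRelativeDimension 1 f] [GeometricallyConnected f] {T : Over (Spec (CommRingCat.of k))}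

/-- The ideal of a point has degree minus one. -/
theorem degU_uI (a : T ⟶ Over.mk f) (t : T.left) : degU f T (uI a) t = -1 := by
  let Ω := AlgebraicClosure (T.left.residueField t)
  let pt : Spec (CommRingCat.of Ω) ⟶ T.left :=
    Spec.map (CommRingCat.ofHom (algebraMap (T.left.residueField t) Ω)) ≫ T.left.fromSpecResidueField t
  let τ := pt ≫ T.hom
  let q : Over.mk τ ⟶ T := Over.homMk pt rfl
  have hqt : q.left (IsLocalRing.closedPoint Ω) = t := by
    show pt _ = t
    rw [Scheme.Hom.comp_apply]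
    exact Scheme.fromSpecResidueField_apply t _
  have e1 := degU_mp q (uI_mem a) (IsLocalRing.closedPoint Ω)
  rw [hqt, show mp f q (uI a) = uI (q ≫ a) from map_uI q a] at e1
  rw [← e1, ← deg_eq_degU τ (isInvertible_secIdeal (q ≫ a)) (val_uI (q ≫ a)).symm]
  haveI := curve_proper (f := f) τ
  haveI := curve_smooth (f := f) τ
  haveI := curve_integral (f := f) τ
  haveI := Groth.L21.RR.isNoetherian_of_proper (X := PicF.XT f (Over.mk τ)) Ω
  have hP := isClosed_point (k := Ω) (X := PicF.XT f (Over.mk τ)) (sec (q ≫ a)) (sec_proj _)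
  rw [ker_point (k := Ω) (X := PicF.XT f (Over.mk τ)) (sec (q ≫ a)) (sec_proj _),
    (Groth.L21.Duality.deg_ptI (k := Ω) (curve_dim (f := f) τ) hP).2,
    Groth.L21.RR.finrank_residueField_eq_one Ω hP]
  rfl

theorem degU_zpow {x : (PicF.Cl (PicF.XT f T))ˣ} (hx : x ∈ invU _) (d : ℤ) (t : T.left) :
    degU f T (x ^ d) t = d * degU f T x t := by
  induction d using Int.induction_on with
  | zero => rw [zpow_zero, degU_one, zero_mul]
  | succ n ih =>
    rw [zpow_add_one, degU_mul ((invU _).zpow_mem hx _) hx, ih, add_mul, one_mul]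
  | pred n ih =>
    rw [zpow_sub_one, degU_mul ((invU _).zpow_mem hx _) ((invU _).inv_mem hx), ih, degU_inv hx, sub_mul,
      one_mul, sub_eq_add_neg]

theorem okd_iff {d : ℤ} {L : (PicF.XT f T).Modules} {x : (PicF.Cl (PicF.XT f T))ˣ} (hx : x ∈ invU _)
    (h : PicF.cl L = (x : PicF.Cl (PicF.XT f T))) :
    (ModFun.PicDeg f d).ok T L ↔ ∀ t, degU f T x t = d := by
  have hL : PicF.IsInvertible L := AbDualLib.isInvertible_of_isInvertibleCl (h ▸ hx.1)
  constructor
  · rintro ⟨-, hd⟩ t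
    let Ω := AlgebraicClosure (T.left.residueField t)
    let pt : Spec (CommRingCat.of Ω) ⟶ T.left :=
      Spec.map (CommRingCat.ofHom (algebraMap (T.left.residueField t) Ω)) ≫ T.left.fromSpecResidueField t
    let a : Over.mk (pt ≫ T.hom) ⟶ T := Over.homMk pt rfl
    have e : Curv2.deg Ω (PicF.XT f (Over.mk (pt ≫ T.hom)))
        ((Scheme.Modules.pullback (PicF.XTmap f a)).obj L) 1 = d := hd Ω pt
    rw [deg_eq_degU (f := f) (pt ≫ T.hom) (x := mp f a x) (Groth.L18.Ample.isInvertible_pullback _ hL)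
      (show PicF.cl _ = PicF.pullCl (PicF.XTmap f a) (x : PicF.Cl (PicF.XT f T)) by rw [← h]; rfl)
      (IsLocalRing.closedPoint Ω), degU_mp a hx,
      show a.left (IsLocalRing.closedPoint Ω) = t by
        show pt _ = t
        rw [Scheme.Hom.comp_apply]
        exact Scheme.fromSpecResidueField_apply t _] at e
    exact e
  · intro hd
    refine ⟨⟨trivial, Groth.L21.Bundle.locFree_one hL⟩, fun Ω _ _ pt => ?_⟩
    let a : Over.mk (pt ≫ T.hom) ⟶ T := Over.homMk pt rfl
    refine (deg_eq_degU (f := f) (pt ≫ T.hom) (x := mp f a x) (Groth.L18.Ample.isInvertible_pullback _ hL)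
      (show PicF.cl _ = PicF.pullCl (PicF.XTmap f a) (x : PicF.Cl (PicF.XT f T)) by rw [← h]; rfl)
      (IsLocalRing.closedPoint Ω)).trans ?_
    rw [degU_mp a hx, hd]

/-- A representing object of degree zero classes represents every degree. -/
theorem exists_univFamily {σ : Spec (CommRingCat.of k) ⟶ X} {hσ : σ ≫ f = 𝟙 _}
    {J : Over (Spec (CommRingCat.of k))} {ξ : (deg0Fam f σ hσ).obj J} (hJ : (deg0Fam f σ hσ).IsRep J ξ) (d : ℤ) :
    ∃ ξd : (PicF.XT f J).Modules, ModFun.IsUnivFamily ⊤ (ModFun.PicDeg f d) J ξd := by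
  let tw : ∀ T : Over (Spec (CommRingCat.of k)), (PicF.Cl (PicF.XT f T))ˣ :=
    fun T => nrm σ hσ T (uI (origin T σ hσ) ^ (-d))
  have htwm : ∀ T, tw T ∈ rigSub f σ hσ T := fun T => nrm_mem σ hσ ((invU _).zpow_mem (uI_mem _) _)
  have htwd : ∀ T t, degU f T (tw T) t = d := fun T t => by
    rw [degU_nrm σ hσ ((invU _).zpow_mem (uI_mem _) _), degU_zpow (uI_mem _), degU_uI]
    ring
  have htwp : ∀ {T T' : Over (Spec (CommRingCat.of k))} (q : T' ⟶ T), mp f q (tw T) = tw T' := fun {T T'} q => by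
    simp only [tw]
    rw [mp_nrm, map_zpow, show mp f q (uI (origin T σ hσ)) = uI (q ≫ origin T σ hσ) from map_uI q _, comp_origin]
  have hc : ξ.1 * tw J ∈ invU _ := (invU _).mul_mem ξ.2.1.1 (htwm J).1
  obtain ⟨L₀, hL₀, hL₀i⟩ := hc.1
  have hok : (ModFun.PicDeg f d).ok J L₀ := (okd_iff hc hL₀).2 fun t => by
    rw [degU_mul ξ.2.1.1 (htwm J).1, ξ.2.2, htwd, zero_add]
  refine ⟨L₀, hok, fun T L _ hL => ?_⟩
  obtain ⟨x, hx, hxL⟩ := exists_invU (c := PicF.cl L) ⟨L, rfl, Groth.L22.GenRank.isInvertible_of_rank_one hL.1.2⟩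
  have hxd := (okd_iff hx hxL.symm).1 hL
  let y := nrm σ hσ T x * (tw T)⁻¹
  have hy : y ∈ deg0Sub f σ hσ T := ⟨(rigSub f σ hσ T).mul_mem (nrm_mem σ hσ hx) ((rigSub f σ hσ T).inv_mem (htwm T)),
    fun t => by rw [degU_mul (nrm_mem σ hσ hx).1 ((invU _).inv_mem (htwm T).1), degU_nrm σ hσ hx, hxd,
      degU_inv (htwm T).1, htwd, add_neg_cancel]⟩
  have key : ∀ q : T ⟶ J, (ModFun.PicDeg f d).r T ((ModFun.PicDeg f d).pull q L₀) L ↔ valAt ξ q = y := fun q => by
    have hpull : PicF.cl ((ModFun.PicDeg f d).pull q L₀) =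
        ((valAt ξ q * tw T : (PicF.Cl (PicF.XT f T))ˣ) : PicF.Cl (PicF.XT f T)) := by
      show PicF.pullCl (PicF.XTmap f q) (PicF.cl L₀) = _
      rw [hL₀, valAt, ← htwp q, ← map_mul]
      rfl
    constructor
    · rintro ⟨M, hM, ⟨e⟩⟩
      obtain ⟨b, hb, hbM⟩ := exists_invU (c := PicF.cl M) ⟨M, rfl, hM⟩
      have e1 : x = valAt ξ q * tw T * pb f T b := Units.ext (by
        rw [hxL, AbDualLib.cl_congr e, Units.val_mul _ (pb f T b), ← hpull]
        exact (congrArg (PicF.cl _ * PicF.pullCl _ ·) hbM).symm)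
      simp only [y]
      rw [e1, map_mul, map_mul, nrm_pb, mul_one, nrm_of_mem σ hσ (valAt_mem q).1, nrm_of_mem σ hσ (htwm T),
        mul_inv_cancel_right]
    · intro e
      obtain ⟨M, hM, hMi⟩ := (map_mem_invU (PicF.secT f σ hσ T) hx).1
      refine ⟨M, hMi, (PicGrp.cl_eq_cl_iff _ _).1 ?_⟩
      show PicF.cl L = PicF.cl ((ModFun.PicDeg f d).pull q L₀) * PicF.pullCl (PicF.XTproj f T) (PicF.cl M)
      rw [hpull, e, inv_mul_cancel_right, hM, ← hxL]
      show _ = ((nrm σ hσ T x * pb f T (sT σ hσ T x) : (PicF.Cl (PicF.XT f T))ˣ) : PicF.Cl (PicF.XT f T))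
      rw [nrm_def, inv_mul_cancel_right]
  obtain ⟨q, hq, hu⟩ := hJ T ⟨y, hy⟩
  exact ⟨q, (key q).2 (congrArg Subtype.val hq), fun q' hq' => hu q' (Subtype.ext ((key q').1 hq'))⟩

end Curve

/-- The degree `d` Picard scheme of a curve with a rational point. -/
theorem exists_picDeg (k : Type u) [Field k] {X : Scheme.{u}} [X.Over (Spec (CommRingCat.of k))]
    [IsProper (X ↘ Spec (CommRingCat.of k))] [SmoothOfRelativeDimension 1 (X ↘ Spec (CommRingCat.of k))]
    [GeometricallyConnected (X ↘ Spec (CommRingCat.of k))]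
    (σ : Spec (CommRingCat.of k) ⟶ X) (hσ : σ ≫ (X ↘ Spec (CommRingCat.of k)) = 𝟙 _) (d : ℤ) :
    ∃ (J : Over (Spec (CommRingCat.of k))) (ξd : (ModFun.PicDeg (X ↘ Spec (CommRingCat.of k)) d).Fam J),
      RelProj.IsHProjective J.hom ∧ Smooth J.hom ∧ Nonempty (𝟙_ (Over (Spec (CommRingCat.of k))) ⟶ J) ∧
      ModFun.IsUnivFamily ⊤ (ModFun.PicDeg (X ↘ Spec (CommRingCat.of k)) d) J ξd := by
  obtain ⟨J, ξ, hJ, hp, hs, hi⟩ := exists_jacobian k σ hσ
  letI : GrpObj J := grpObjRep hJ
  obtain ⟨ξd, hξd⟩ := exists_univFamily hJ d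
  exact ⟨J, ξd, isHProjective_of_abelian J, hs, ⟨MonObj.one⟩, hξd⟩

end Groth.Agent.L26.JacRat
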