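import Groth.Agent.L25.HomScheme.Glue

/-!
# Descent of representing objects with an effective descent datum
-/

set_option autoImplicit false
set_option linter.style.haveILetI false
universe u v

open CategoryTheory CategoryTheory.Limits MonoidalCategory CartesianMonoidalCategory
open AlgebraicGeometry

set_option backward.isDefEq.respectTransparency.types false

noncomputable section

namespace Groth.Agent.L26.JacRat

open Groth.L20.SchDesc Groth.L25.HomScheme

variable {S : Scheme.{u}} {F : Fam.{u, v} S} {P A₁ : Over S} {r : A₁ ⟶ P} {ξ : F.obj A₁}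

/-- A representing object over a covering descends. -/
theorem exists_rep_of_effective [Cov P.hom] (hA : ∀ D : Pre P.hom r.left, Effective D) (h : F.IsRepOn r ξ)
    (hsep : ∀ T : Over S, F.Sep (fst T P)) (hdesc : ∀ T : Over S, F.Desc (fst T P)) :
    ∃ (A : Over S) (η : F.obj A), F.IsRep A η ∧
      ∃ q : A₁ ⟶ A, IsPullback r.left q.left P.hom A.hom ∧ F.res q η = ξ := by
  obtain ⟨D, hD⟩ := h.exists_pre
  obtain ⟨d⟩ := hA D
  let A : Over S := Over.mk d.a
  let q : A₁ ⟶ A := Over.homMk d.q (d.isPullback.w.symm.trans (Over.w r))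
  have sq : IsPullback r.left q.left P.hom A.hom := d.isPullback
  have hrel : ∀ {T : Over S} (a b : T ⟶ A₁), a ≫ q = b ≫ q ↔ F.res a ξ = F.res b ξ := by
    intro T a b
    have e : a.left ≫ r.left ≫ P.hom = (b ≫ r).left ≫ P.hom := by
      have h1 := Over.w (b ≫ r)
      rw [Over.w r, Over.w a, h1]
    rw [← hD a b e]
    constructor
    · exact fun hq => d.act_eq a.left b.left (congrArg (fun m => m.left) hq) e
    · intro hb
      refine Over.OverMorphism.ext ?_
      show a.left ≫ d.q = b.left ≫ d.q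
      rw [← hb, d.comm _ _ e]
  obtain ⟨c, hcq, hcr⟩ : ∃ c : A ⊗ P ⟶ A₁, c ≫ q = fst A P ∧ c ≫ r = snd A P := by
    refine ⟨Over.homMk (sq.lift (snd A P).left (fst A P).left
      ((Over.w (snd A P)).trans (Over.w (fst A P)).symm)) ?_,
      Over.OverMorphism.ext (sq.lift_snd _ _ _), Over.OverMorphism.ext (sq.lift_fst _ _ _)⟩
    rw [← Over.w r, sq.lift_fst_assoc]
    exact Over.w (snd A P)
  obtain ⟨η, hη⟩ := hdesc A (F.res c ξ) fun Z a b hab => by
    rw [← F.res_comp, ← F.res_comp, ← hrel, Category.assoc, Category.assoc, hcq, hab]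
  have hqη : F.res q η = ξ := by
    have h1 : lift q r ≫ c = 𝟙 A₁ := Over.OverMorphism.ext (sq.hom_ext
      (congrArg (fun m => m.left) ((by rw [Category.assoc, hcr, lift_snd, Category.id_comp] :
        (lift q r ≫ c) ≫ r = 𝟙 A₁ ≫ r)))
      (congrArg (fun m => m.left) ((by rw [Category.assoc, hcq, lift_fst, Category.id_comp] :
        (lift q r ≫ c) ≫ q = 𝟙 A₁ ≫ q))))
    have h2 := congrArg (F.res (lift q r)) hη
    rwa [← F.res_comp, ← F.res_comp, lift_fst, h1, F.res_id] at h2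
  refine ⟨A, η, fun T x => ?_, q, sq, hqη⟩
  let q' := fst T P
  have : Cov q'.left := Cov.of_isPullback (IsPullback.of_hasPullback T.hom P.hom).flip
  have : Epi q'.left := Cov.epi q'.left
  have : Epi q' := Over.epi_of_epi_left _
  obtain ⟨a', ⟨ha1, ha2⟩, -⟩ := h (T ⊗ P) (snd T P) (F.res q' x)
  have hconst : ∀ {Z : Scheme.{u}} (g₁ g₂ : Z ⟶ (T ⊗ P).left), g₁ ≫ q'.left = g₂ ≫ q'.left →
      g₁ ≫ (a' ≫ q).left = g₂ ≫ (a' ≫ q).left := by
    intro Z g₁ g₂ hg
    let G₁ : Over.mk ((g₁ ≫ q'.left) ≫ T.hom) ⟶ T ⊗ P := Over.homMk g₁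
      ((congrArg (g₁ ≫ ·) (Over.w q').symm).trans (Category.assoc _ _ _).symm)
    let G₂ : Over.mk ((g₁ ≫ q'.left) ≫ T.hom) ⟶ T ⊗ P := Over.homMk g₂
      ((congrArg (g₂ ≫ ·) (Over.w q').symm).trans
        ((Category.assoc _ _ _).symm.trans (congrArg (· ≫ T.hom) hg.symm)))
    have hG : G₁ ≫ q' = G₂ ≫ q' := Over.OverMorphism.ext hg
    have h1 : (G₁ ≫ a') ≫ q = (G₂ ≫ a') ≫ q := by
      rw [hrel, F.res_comp, F.res_comp, ha2, ← F.res_comp, ← F.res_comp, hG]
    exact (Category.assoc _ _ _).symm.trans ((congrArg (fun m => m.left) h1).trans (Category.assoc _ _ _))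
  obtain ⟨a, ha⟩ := Cov.exists_desc (p := q'.left) (a' ≫ q).left hconst
  let a₀ : T ⟶ A := Over.homMk a (by
    rw [← cancel_epi q'.left, ← Category.assoc, ha]
    exact (Over.w (a' ≫ q)).trans (Over.w q').symm)
  have ha₀ : q' ≫ a₀ = a' ≫ q := Over.OverMorphism.ext ha
  refine ⟨a₀, hsep T _ _ ?_, fun b hb => ?_⟩
  · show F.res q' (F.res a₀ η) = F.res q' x
    rw [← F.res_comp, ha₀, F.res_comp, hqη, ha2]
  · rw [← cancel_epi q', ha₀]
    have h1 : lift (q' ≫ b) (snd T P) ≫ c = a' := by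
      refine h.ext ?_ ?_
      · rw [Category.assoc, hcr, lift_snd, ha1]
      · rw [F.res_comp, ← hη, ← F.res_comp, lift_fst, F.res_comp, hb, ha2]
    rw [← h1, Category.assoc, hcq, lift_fst]


end Groth.Agent.L26.JacRat
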