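import Groth.Agent.L26.JacRat.Deg
import Groth.Agent.L26.PicRep.Sheaf
import Groth.Agent.L26.AbDual.Classes

/-!
# The family of rigidified classes of degree zero
-/

set_option autoImplicit false
set_option linter.style.haveILetI false
set_option linter.unusedSectionVars false
set_option backward.isDefEq.respectTransparency false
set_option backward.isDefEq.respectTransparency.types false

universe u v

open CategoryTheory CategoryTheory.Limits AlgebraicGeometry
open Groth.L25.HomScheme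

noncomputable section

namespace Groth.Agent.L26.JacRat

open Groth.Agent.L26.PicRep
attribute [local instance] Groth.L08.Cube.clMonoid

section Over

variable {S : Scheme.{u}} (F : Fam.{u, v} S) (P : Over S)

/-- A family on schemes over `P`, seen as a family over the base. -/
def overFam : Fam.{u, max u v} S where
  obj T := F.obj T × (T ⟶ P)
  res q x := (F.res q x.1, q ≫ x.2)
  res_id x := Prod.ext (F.res_id x.1) (Category.id_comp x.2)
  res_comp q p x := Prod.ext (F.res_comp q p x.1) (Category.assoc q p x.2)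

variable {F P}

theorem zarSep_overFam (h : F.ZarSep) : (overFam F P).ZarSep := fun T ι U j hU x y hxy =>
  Prod.ext (h T ι U j hU _ _ fun i => congrArg Prod.fst (hxy i))
    (hU.hom_ext fun i => congrArg Prod.snd (hxy i))

theorem zarGlue_overFam (h : F.ZarGlue) : (overFam F P).ZarGlue := fun T ι U j hU x hx => by
  obtain ⟨y, hy⟩ := h T ι U j hU (fun i => (x i).1) fun i k Z a b e => congrArg Prod.fst (hx i k Z a b e)
  obtain ⟨p, hp⟩ := hU.exists_glue (fun i => (x i).2) fun i k Z a b e => congrArg Prod.snd (hx i k Z a b e)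
  exact ⟨(y, p), fun i => Prod.ext (hy i) (hp i)⟩

theorem isRepOn_of_overFam {A : Over S} {η : (overFam F P).obj A} (h : (overFam F P).IsRep A η) :
    F.IsRepOn η.2 η.1 := fun T p x => by
  obtain ⟨a, ha, hu⟩ := h T (x, p)
  exact ⟨a, ⟨congrArg Prod.snd ha, congrArg Prod.fst ha⟩, fun b hb => hu b (Prod.ext hb.2 hb.1)⟩

end Over

variable {X S : Scheme.{u}} (f : X ⟶ S) [IsProper f] [SmoothOfRelativeDimension 1 f] [GeometricallyConnected f]
  (σ : S ⟶ X) (hσ : σ ≫ f = 𝟙 S)

/-- The rigidified classes of degree zero. -/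
def deg0Sub (T : Over S) : Subgroup (PicF.Cl (PicF.XT f T))ˣ where
  carrier := {x | x ∈ rigSub f σ hσ T ∧ ∀ t, degU f T x t = 0}
  one_mem' := ⟨(rigSub f σ hσ T).one_mem, fun t => degU_one t⟩
  mul_mem' := by
    rintro x y ⟨hx, hx'⟩ ⟨hy, hy'⟩
    exact ⟨(rigSub f σ hσ T).mul_mem hx hy, fun t => by rw [degU_mul hx.1 hy.1, hx', hy', add_zero]⟩
  inv_mem' := by
    rintro x ⟨hx, hx'⟩
    exact ⟨(rigSub f σ hσ T).inv_mem hx, fun t => by rw [degU_inv hx.1, hx', neg_zero]⟩

theorem mp_mem_deg0 {T T' : Over S} (q : T' ⟶ T) {x : (PicF.Cl (PicF.XT f T))ˣ}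
    (hx : x ∈ deg0Sub f σ hσ T) : mp f q x ∈ deg0Sub f σ hσ T' :=
  ⟨mp_mem σ hσ q hx.1, fun t => by rw [degU_mp q hx.1.1, hx.2]⟩

/-- The family of rigidified classes of degree zero. -/
def deg0Fam : Fam.{u, u + 1} S where
  obj T := deg0Sub f σ hσ T
  res q x := ⟨mp f q x.1, mp_mem_deg0 f σ hσ q x.2⟩
  res_id x := Subtype.ext (mp_id x.1)
  res_comp q p x := Subtype.ext (mp_comp q p x.1)

theorem deg0Fam_res_val {T T' : Over S} (q : T' ⟶ T) (x : (deg0Fam f σ hσ).obj T) :
    ((deg0Fam f σ hσ).res q x).1 = mp f q x.1 := rfl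

/-- Forgetting the degree. -/
def toRig {T : Over S} (x : (deg0Fam f σ hσ).obj T) : (rigFam f σ hσ).obj T := ⟨x.1, x.2.1⟩

variable {f σ hσ}

theorem deg0Fam_ext {T : Over S} {x y : (deg0Fam f σ hσ).obj T}
    (h : (x.1 : PicF.Cl (PicF.XT f T)) = y.1) : x = y := Subtype.ext (Units.ext h)

/-- A class as a rigidified class. -/
def rigOf {T : Over S} (x : (deg0Fam f σ hσ).obj T) : PicF.Rig f σ hσ T :=
  ⟨(x.1 : PicF.Cl (PicF.XT f T)), x.2.1.1.1, congrArg Units.val x.2.1.2⟩

/-- A rigidified class of fibre degree zero in the family. -/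
theorem exists_of_rig {T : Over S} (c : PicF.Rig f σ hσ T) (hc : FGA.HasFibreDegreeZeroCl f T c.1) :
    ∃ x : (deg0Fam f σ hσ).obj T, (x.1 : PicF.Cl (PicF.XT f T)) = c.1 := by
  obtain ⟨z, hz, hzc⟩ := exists_invU c.2.1
  refine ⟨⟨z, ⟨hz, Units.ext ?_⟩, hasFibreDegreeZeroCl_iff.1 (hzc ▸ hc)⟩, hzc⟩
  show PicF.pullCl (PicF.secT f σ hσ T) (z : PicF.Cl (PicF.XT f T)) = 1
  rw [hzc]; exact c.2.2

variable (ha : ∀ (T : Over S) (U : T.left.Opens), IsIso ((PicF.XTproj f T).app U))

include ha in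
theorem zarSep_deg0 : (deg0Fam f σ hσ).ZarSep := fun T ι U j hU x y hxy => by
  have h := zarSep_rigFam ha T ι U j hU (toRig f σ hσ x) (toRig f σ hσ y) fun i =>
    Subtype.ext (congrArg Subtype.val (hxy i) : _)
  exact Subtype.ext (congrArg (fun z : (rigFam f σ hσ).obj T => z.1) h)

include ha in
theorem zarGlue_deg0 : (deg0Fam f σ hσ).ZarGlue := fun T ι U j hU x hx => by
  obtain ⟨y, hy⟩ := zarGlue_rigFam (f := f) (σ := σ) (hσ := hσ) ha T ι U j hU (fun i => toRig f σ hσ (x i))
    fun i k Z a b e => Subtype.ext (congrArg Subtype.val (hx i k Z a b e) : _)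
  refine ⟨⟨y.1, y.2, fun t => ?_⟩, fun i => Subtype.ext (congrArg Subtype.val (hy i) : _)⟩
  obtain ⟨i, t', rfl⟩ := hU.covers t
  rw [← degU_mp (j i) y.2.1, show mp f (j i) y.1 = (x i).1 from congrArg Subtype.val (hy i)]
  exact (x i).2.2 t'

include ha in
/-- Classes are determined after a covering. -/
theorem sep_deg0 {T T' : Over S} (q : T' ⟶ T) [Flat q.left] [LocallyOfFinitePresentation q.left]
    [Surjective q.left] : (deg0Fam f σ hσ).Sep q := fun x y h => by
  have hR : Presieve.singleton q.left ∈ Scheme.fppfPrecoverage T.left := by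
    rw [Scheme.fppfPrecoverage, Scheme.singleton_mem_precoverage_iff]
    exact ⟨q.left.surjective, ⟨inferInstance, inferInstance⟩⟩
  refine deg0Fam_ext (AbDualLib.cl_eq_of_cover f σ hσ hR (fun T'' t _ => ?_) x.2.1.1.1 y.2.1.1.1
    ((congrArg Units.val x.2.1.2).trans (congrArg Units.val y.2.1.2).symm) ?_)
  · haveI := ha T'' ⊤
    exact (ConcreteCategory.bijective_of_isIso ((PicF.XTproj f T'').app ⊤)).2
  · rintro _ _ ⟨⟩
    let e : AbDual.ovr T q.left ⟶ T' := Over.homMk (𝟙 _) ((Category.id_comp _).trans (Over.w q).symm)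
    have he : e ≫ q = AbDual.ovrHom T q.left := Over.OverMorphism.ext (Category.id_comp _)
    have h2 : mp f (AbDual.ovrHom T q.left) x.1 = mp f (AbDual.ovrHom T q.left) y.1 := by
      rw [← he, mp_comp, mp_comp]
      exact congrArg (mp f e) (congrArg Subtype.val h)
    exact congrArg Units.val h2

include ha in
/-- Classes descend along a covering. -/
theorem desc_deg0 {T T' : Over S} (q : T' ⟶ T) [Flat q.left] [LocallyOfFinitePresentation q.left]
    [Surjective q.left] : (deg0Fam f σ hσ).Desc q := fun x hx => by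
  let T₁ := AbDual.ovr T q.left
  let e : T₁ ⟶ T' := Over.homMk (𝟙 _) ((Category.id_comp _).trans (Over.w q).symm)
  have he : e ≫ q = AbDual.ovrHom T q.left := Over.OverMorphism.ext (Category.id_comp _)
  let e' : T' ⟶ T₁ := Over.homMk (𝟙 _) ((Category.id_comp _).trans (Over.w q))
  have he' : e' ≫ e = 𝟙 T' := Over.OverMorphism.ext (Category.id_comp _)
  let x₁ := (deg0Fam f σ hσ).res e x
  let p₁ : AbDual.ovr T₁ (pullback.fst q.left q.left) ⟶ T₁ := AbDual.ovrHom T₁ (pullback.fst q.left q.left)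
  let p₂ : AbDual.ovr T₁ (pullback.fst q.left q.left) ⟶ T₁ :=
    Over.homMk (pullback.snd q.left q.left) (pullback.condition_assoc T.hom).symm
  have hglue := hx _ (p₁ ≫ e) (p₂ ≫ e) (by
    rw [Category.assoc, Category.assoc, he]
    exact Over.OverMorphism.ext pullback.condition)
  rw [(deg0Fam f σ hσ).res_comp, (deg0Fam f σ hσ).res_comp] at hglue
  obtain ⟨c, hc, -⟩ := Groth.Agent.S12403.result f σ hσ ha T q.left (rigOf x₁)
    (congrArg Units.val (congrArg Subtype.val hglue))
  obtain ⟨z, hz, hzc⟩ := exists_invU c.2.1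
  have hzr : z ∈ rigSub f σ hσ T := ⟨hz, Units.ext (by
    show PicF.pullCl (PicF.secT f σ hσ T) (z : PicF.Cl (PicF.XT f T)) = 1
    rw [hzc]; exact c.2.2)⟩
  have hz1 : mp f (AbDual.ovrHom T q.left) z = x₁.1 := Units.ext (by
    show PicF.pullCl (PicF.XTmap f (AbDual.ovrHom T q.left)) (z : PicF.Cl (PicF.XT f T)) = _
    rw [hzc]; exact hc)
  have hzx : mp f q z = x.1 := by
    have h2 : mp f e' (mp f e (mp f q z)) = mp f e' (mp f e x.1) := by
      rw [← mp_comp e q, he, hz1]
      rfl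
    rwa [← mp_comp, ← mp_comp e' e, he', mp_id, mp_id] at h2
  refine ⟨⟨z, hzr, fun t => ?_⟩, Subtype.ext hzx⟩
  obtain ⟨t', rfl⟩ := q.left.surjective t
  rw [← degU_mp q hz, hzx]
  exact x.2.2 t'

end Groth.Agent.L26.JacRat
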