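import Groth.Agent.L26.JacRat.TorsCountField
import Groth.Agent.L21.Sep.CurveSeries
import Groth.Agent.L22.FibreDim
import Groth.Agent.L21.RR.BaseChange
import Groth.Prelude.Def_CurvBase

/-!
# A separable extension making all torsion classes of a curve rational
-/

set_option autoImplicit false
set_option linter.style.haveILetI false
set_option linter.unusedSectionVars false
set_option backward.isDefEq.respectTransparency false
set_option backward.isDefEq.respectTransparency.types false

universe u

open CategoryTheory CategoryTheory.Limits AlgebraicGeometry MonoidalCategory CartesianMonoidalCategory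
open Groth.L25.HomScheme

noncomputable section

namespace Groth.Agent.L26.JacRat

open Groth.Agent.L26.PicRep Groth.Agent.L26.PicSm Groth.Agent.Elliptic
attribute [local instance] Groth.L08.Cube.clMonoid Groth.Agent.L26.PicSm.curveOver

/-- A separable point yields a separable extension with a rational point and full torsion. -/
theorem exists_full_torsion (k : Type u) [Field k] (X : Scheme.{u}) [X.Over (Spec (CommRingCat.of k))]
    [IsIntegral X] [IsProper (X ↘ Spec (CommRingCat.of k))] [Smooth (X ↘ Spec (CommRingCat.of k))]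
    (hdim : topologicalKrullDim X = 1) (h0 : Module.finrank k (Coh.HH X (Coh.structureModule X) 0) = 1)
    (x : X) (hsep : letI := Curv2.resAlgebra k X x; Algebra.IsSeparable k (X.residueField x))
    (hfin : letI := Curv2.resAlgebra k X x; FiniteDimensional k (X.residueField x))
    (n : ℕ) (hn : IsUnit (n : k)) :
    ∃ (k' : Type u) (_ : Field k') (_ : Algebra k k'), FiniteDimensional k k' ∧ Algebra.IsSeparable k k' ∧
      Module.finrank k k' ≤ (letI := Curv2.resAlgebra k X x; Module.finrank k (X.residueField x)) *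
        Nat.factorial (n ^ (2 * Curv2.genus k X)) ∧
      (∃ x : Spec (CommRingCat.of k') ⟶ Curv2.bc k X k', x ≫ Curv2.bcSnd k X k' = 𝟙 _) ∧
      Nat.card (torsClasses (Curv2.bc k X k') n) = n ^ (2 * Curv2.genus k X) := by
  haveI := Groth.L21.SepSeries.geometricallyIntegral (X := X) k h0
  haveI : GeometricallyConnected (X ↘ Spec (CommRingCat.of k)) := ⟨fun K _ y Y g q sq => by
    haveI : IsIntegral Y :=
      GeometricallyIntegral.geometrically_isIntegral (f := X ↘ Spec (CommRingCat.of k)) y g q sq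
    infer_instance⟩
  haveI := Groth.L21.SmoothCurve.smoothOfRelativeDimension_one (X ↘ Spec (CommRingCat.of k)) hdim
  let K₁ : Type u := X.residueField x
  letI : Algebra k K₁ := Curv2.resAlgebra k X x
  haveI : FiniteDimensional k K₁ := hfin
  haveI : Algebra.IsSeparable k K₁ := hsep
  have hs : Spec.map (CommRingCat.ofHom (algebraMap k K₁)) =
      X.fromSpecResidueField x ≫ (X ↘ Spec (CommRingCat.of k)) := Groth.L22.FibreDim.SpecMap_resMap k X x
  let τ₁ : Spec (CommRingCat.of K₁) ⟶ Spec (CommRingCat.of k) := Spec.map (CommRingCat.ofHom (algebraMap k K₁))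
  let X₁ := Curv2.bc k X K₁
  letI : X₁.Over (Spec (CommRingCat.of K₁)) := ⟨Curv2.bcSnd k X K₁⟩
  haveI : IsProper (X₁ ↘ Spec (CommRingCat.of K₁)) := inferInstanceAs (IsProper (pullback.snd _ _))
  haveI := smoothOfRelativeDimension_isStableUnderBaseChange.{u} (n := 1)
  haveI : SmoothOfRelativeDimension 1 (X₁ ↘ Spec (CommRingCat.of K₁)) :=
    show SmoothOfRelativeDimension 1 (pullback.snd (X ↘ Spec (CommRingCat.of k)) τ₁) from
      MorphismProperty.of_isPullback (P := @SmoothOfRelativeDimension 1)
        (IsPullback.of_hasPullback (X ↘ Spec (CommRingCat.of k)) τ₁) inferInstance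
  haveI : GeometricallyConnected (X₁ ↘ Spec (CommRingCat.of K₁)) :=
    inferInstanceAs (GeometricallyConnected (pullback.snd (X ↘ Spec (CommRingCat.of k)) τ₁))
  have hsq : IsPullback (Curv2.bcFst k X K₁) (X₁ ↘ Spec (CommRingCat.of K₁)) (X ↘ Spec (CommRingCat.of k)) τ₁ :=
    IsPullback.of_hasPullback _ _
  have hgen : Curv2.genus K₁ X₁ = Curv2.genus k X := Groth.L21.RR.genus_bc (Curv2.bcFst k X K₁) hsq
  let σ : Spec (CommRingCat.of K₁) ⟶ X₁ := pullback.lift (X.fromSpecResidueField x) (𝟙 _) (by
    rw [Category.id_comp]; exact hs.symm)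
  have hσ : σ ≫ (X₁ ↘ Spec (CommRingCat.of K₁)) = 𝟙 _ := pullback.lift_snd _ _ _
  obtain ⟨J, ξ, hJ, hp, hsm, hi⟩ := exists_jacobian K₁ σ hσ
  letI := grpObjRep hJ
  haveI := isCommMonObj_of_isProper_of_geometricallyIntegral J
  have hdJ := dim_eq_genus K₁ hJ
  have hn₁ : (n : K₁) ≠ 0 := by
    rw [← map_natCast (algebraMap k K₁) n]
    exact (map_ne_zero _).2 hn.ne_zero
  obtain ⟨L, _, _, hLfin, hLsep, hLdeg, hLcard⟩ :=
    Groth.Agent.L26.TorsSplit.exists_split_torsion hdJ n hn₁
  letI : Algebra k L := ((algebraMap K₁ L).comp (algebraMap k K₁)).toAlgebra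
  haveI : IsScalarTower k K₁ L := IsScalarTower.of_algebraMap_eq fun _ => rfl
  haveI := hLfin; haveI := hLsep
  let τ₂ : Spec (CommRingCat.of L) ⟶ Spec (CommRingCat.of K₁) := Spec.map (CommRingCat.ofHom (algebraMap K₁ L))
  have hτ : τ₂ ≫ τ₁ = Spec.map (CommRingCat.ofHom (algebraMap k L)) := by
    rw [← Spec.map_comp]; rfl
  refine ⟨L, inferInstance, inferInstance, FiniteDimensional.trans k K₁ L, Algebra.IsSeparable.trans k K₁ L,
    ?_, ⟨pullback.lift (τ₂ ≫ X.fromSpecResidueField x) (𝟙 _) (by
      rw [Category.id_comp, Category.assoc, ← hs]; exact hτ), pullback.lift_snd _ _ _⟩, ?_⟩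
  · rw [← Module.finrank_mul_finrank k K₁ L, ← hgen]
    exact Nat.mul_le_mul le_rfl hLdeg
  · have hsq₂ : IsPullback (pullback.fst (X₁ ↘ Spec (CommRingCat.of K₁)) τ₂ ≫ Curv2.bcFst k X K₁)
        (pullback.snd (X₁ ↘ Spec (CommRingCat.of K₁)) τ₂) (X ↘ Spec (CommRingCat.of k))
        (Spec.map (CommRingCat.ofHom (algebraMap k L))) :=
      hτ ▸ (IsPullback.of_hasPullback (X₁ ↘ Spec (CommRingCat.of K₁)) τ₂).paste_horiz hsq
    rw [card_torsClasses_of_iso hsq₂.isoPullback.hom n, ← hgen, ← hLcard]
    exact card_torsPts_field hJ (fun h => hn.ne_zero (by rw [h, Nat.cast_zero])) τ₂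

end Groth.Agent.L26.JacRat
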