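import Groth.Agent.L26.JacRat.Coarse
import Groth.Agent.L08.Cube.NPull
import Groth.Prelude.Def_FGA

/-!
# Good classes at rational points
-/

set_option autoImplicit false
set_option linter.style.haveILetI false
set_option linter.unusedSectionVars false
set_option backward.isDefEq.respectTransparency false
set_option backward.isDefEq.respectTransparency.types false

universe u

open CategoryTheory CategoryTheory.Limits AlgebraicGeometry MonoidalCategory CartesianMonoidalCategory

noncomputable section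

namespace Groth.Agent.L26.JacRat

open Groth.Agent.L26.PicRep Groth.Agent.L26.PicSm Groth.Agent.Elliptic
attribute [local instance] Groth.L08.Cube.clMonoid Groth.Agent.L26.PicSm.curveOver

theorem cl_tensorList_ofFn {Y : Scheme.{u}} : ∀ {n : ℕ} (M : Fin n → Y.Modules),
    PicF.cl (FGA.tensorList (List.ofFn M)) = ∏ i, PicF.cl (M i)
  | 0, M => by rw [List.ofFn_zero, Fin.prod_univ_zero]; rfl
  | n + 1, M => by
    rw [List.ofFn_succ, Fin.prod_univ_succ, ← cl_tensorList_ofFn fun i => M i.succ]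
    rfl

section Field

variable (k : Type u) [Field k] {X : Scheme.{u}} [X.Over (Spec (CommRingCat.of k))]
  [IsProper (X ↘ Spec (CommRingCat.of k))] [SmoothOfRelativeDimension 1 (X ↘ Spec (CommRingCat.of k))]
  [GeometricallyConnected (X ↘ Spec (CommRingCat.of k))]

/-- The base as a scheme over itself. -/
abbrev onePt : Over (Spec (CommRingCat.of k)) := Over.mk (𝟙 (Spec (CommRingCat.of k)))

/-- Pulling classes back to the trivial base change. -/
def toOne : PicF.Cl X →* PicF.Cl (PicF.XT (X ↘ Spec (CommRingCat.of k)) (onePt k)) :=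
  Groth.L08.Cube.pullClHom (pullback.fst (X ↘ Spec (CommRingCat.of k)) (𝟙 (Spec (CommRingCat.of k))))

/-- A rational point as a point over the base. -/
abbrev ptX (σ : Spec (CommRingCat.of k) ⟶ X) (hσ : σ ≫ (X ↘ Spec (CommRingCat.of k)) = 𝟙 _) :
    onePt k ⟶ Over.mk (X ↘ Spec (CommRingCat.of k)) :=
  origin (onePt k) σ hσ

variable {k}

theorem val_uI_ptX (σ : Spec (CommRingCat.of k) ⟶ X) (hσ : σ ≫ (X ↘ Spec (CommRingCat.of k)) = 𝟙 _) :
    (uI (ptX k σ hσ) : PicF.Cl (PicF.XT (X ↘ Spec (CommRingCat.of k)) (onePt k))) =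
      toOne k (PicF.cl (ClSub.idealMod σ.ker)) :=
  val_uI_origin σ hσ (onePt k)

theorem comp_ptX {T : Over (Spec (CommRingCat.of k))} (q : onePt k ⟶ T) (a : T ⟶ Over.mk (X ↘ Spec (CommRingCat.of k)))
    (σ : Spec (CommRingCat.of k) ⟶ X) (hσ : σ ≫ (X ↘ Spec (CommRingCat.of k)) = 𝟙 _) (e : q.left ≫ a.left = σ) :
    q ≫ a = ptX k σ hσ :=
  Over.OverMorphism.ext (e.trans (Category.id_comp σ).symm)

theorem fiberRank_toOne {M : X.Modules} (hM : PicF.IsInvertible M) (p : ℕ) (t : (onePt k).left) :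
    CohIII.fiberRank (PicF.XTproj (X ↘ Spec (CommRingCat.of k)) (onePt k))
      ((Scheme.Modules.pullback (pullback.fst (X ↘ Spec (CommRingCat.of k)) (𝟙 (Spec (CommRingCat.of k))))).obj M) p t =
        Module.finrank k (Coh.HH X M p) := by
  let g := pullback.fst (X ↘ Spec (CommRingCat.of k)) (𝟙 (Spec (CommRingCat.of k)))
  let Y := PicF.XT (X ↘ Spec (CommRingCat.of k)) (onePt k)
  letI : Y.Over (Spec (CommRingCat.of k)) := ⟨PicF.XTproj (X ↘ Spec (CommRingCat.of k)) (onePt k)⟩
  haveI : IsProper (Y ↘ Spec (CommRingCat.of k)) := inferInstanceAs (IsProper (pullback.snd _ _))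
  haveI := Groth.L21.RR.isNoetherian_of_proper (X := Y) k
  haveI := Groth.L21.RR.isNoetherian_of_proper (X := X) k
  rw [show CohIII.fiberRank (PicF.XTproj (X ↘ Spec (CommRingCat.of k)) (onePt k))
      ((Scheme.Modules.pullback g).obj M) p t = _ from fiberRank_eq_h (K := k) (Y := Y)
    (Groth.L16.ProperFinite.isCoh_of_isInvertible (Groth.L18.Ample.isInvertible_pullback g hM)) p t]
  exact Groth.L21.RR.h_pullback (k := k) (K := k) g (by
    rw [Algebra.algebraMap_self, CommRingCat.ofHom_id, Spec.map_id]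
    exact IsPullback.of_hasPullback _ _) (Groth.L16.ProperFinite.isCoh_of_isInvertible hM) p

theorem mem_goodSet_toOne {M : X.Modules} (hM : PicF.IsInvertible M) (t : (onePt k).left) :
    t ∈ goodSet (X ↘ Spec (CommRingCat.of k)) (onePt k) (toOne k (PicF.cl M)) ↔
      Module.finrank k (Coh.HH X M 1) = 0 ∧ Module.finrank k (Coh.HH X M 0) = 1 := by
  have h : PicF.cl ((Scheme.Modules.pullback (pullback.fst (X ↘ Spec (CommRingCat.of k))
      (𝟙 (Spec (CommRingCat.of k))))).obj M) = toOne k (PicF.cl M) := rfl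
  rw [mem_goodSet_iff h t]
  rw [fiberRank_toOne hM, fiberRank_toOne hM]

/-- At a rational point of the good locus the class has one section and no first cohomology. -/
theorem h_of_good {T : Over (Spec (CommRingCat.of k))} {c : (PicF.Cl (PicF.XT (X ↘ Spec (CommRingCat.of k)) T))ˣ}
    (hc : c ∈ invU _) (q : onePt k ⟶ T)
    (hq : ∀ t, q.left t ∈ goodSet (X ↘ Spec (CommRingCat.of k)) T (c : PicF.Cl (PicF.XT (X ↘ Spec (CommRingCat.of k)) T)))
    {M : X.Modules} (hM : PicF.IsInvertible M)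
    (e : toOne k (PicF.cl M) = (mp (X ↘ Spec (CommRingCat.of k)) q c : PicF.Cl (PicF.XT (X ↘ Spec (CommRingCat.of k)) (onePt k)))) :
    Module.finrank k (Coh.HH X M 1) = 0 ∧ Module.finrank k (Coh.HH X M 0) = 1 := by
  rw [← mem_goodSet_toOne hM (IsLocalRing.closedPoint k), e]
  exact (goodSet_pull q hc.1).ge (hq _)

variable [IsAlgClosed k]

/-- A good tuple of rational points. -/
theorem exists_goodPts (g : ℕ) (hg : Curv2.genus k X = g) :
    ∃ (s : Fin g → (Spec (CommRingCat.of k) ⟶ X)) (hs : ∀ i, s i ≫ (X ↘ Spec (CommRingCat.of k)) = 𝟙 _),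
      ∀ t, t ∈ goodSet (X ↘ Spec (CommRingCat.of k)) (onePt k)
        (((∏ i, uI (ptX k (s i) (hs i)))⁻¹ : (PicF.Cl (PicF.XT (X ↘ Spec (CommRingCat.of k)) (onePt k)))ˣ) :
          PicF.Cl (PicF.XT (X ↘ Spec (CommRingCat.of k)) (onePt k))) := by
  let τ : Spec (CommRingCat.of k) ⟶ Spec (CommRingCat.of k) := 𝟙 _
  let f := X ↘ Spec (CommRingCat.of k)
  haveI := curve_proper (f := f) τ
  haveI := curve_smooth (f := f) τ
  haveI := curve_integral (f := f) τ
  haveI := Groth.L21.RR.isNoetherian_of_proper (X := PicF.XT f (onePt k)) k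
  haveI := Groth.L21.RR.isNoetherian_of_proper (X := X) k
  have hd := curve_dim (f := f) τ
  have hgK : Curv2.genus k (PicF.XT f (onePt k)) = g :=
    (genus_geometric k k τ).trans hg
  obtain ⟨N, hN, hdN, hh⟩ := Groth.L21.Duality.exists_h0_eq_one (k := k) hd (curve_h0 τ) g hgK.ge
  haveI := Groth.L21.Duality.nontrivial_of_h0_pos (k := k) (L := N) hh.ge
  obtain ⟨φN, hφN⟩ := Groth.L21.RR.exists_hom_ne_zero (L := N)
  haveI : JacobsonSpace ↥X := LocallyOfFiniteType.jacobsonSpace (Y := Spec (CommRingCat.of k)) f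
  obtain ⟨x, -, hx⟩ : ∃ x : X, x ∈ (Set.univ : Set X) ∧ x ∈ closedPoints ↥X := by
    haveI : Nonempty ↥X := by
      haveI : ConnectedSpace ↥(Spec (CommRingCat.of k)) := inferInstanceAs (ConnectedSpace (PrimeSpectrum k))
      haveI : Subsingleton ↥(Spec (CommRingCat.of k)) := inferInstanceAs (Subsingleton (PrimeSpectrum k))
      haveI : ConnectedSpace ↥X := GeometricallyConnected.connectedSpace_of_subsingleton f
      infer_instance
    exact nonempty_inter_closedPoints Set.univ_nonempty isClosed_univ.isLocallyClosed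
  let o : onePt k ⟶ Over.mk f := ptX k (pointOfClosedPoint f x hx) (pointOfClosedPoint_comp _ _ _)
  obtain ⟨p, hp0, hp⟩ := exists_lift_pw τ o g N hN hdN ⟨φN, hφN⟩
  have h1 : Groth.L21.RR.h k 1 N = 0 := by
    have e := hdN
    rw [Curv2.deg, Groth.L21.RR.euler_eq k hd.le (M := N), euler_curve (f := f) τ, hgK, hh] at e
    push_cast at e
    omega
  obtain ⟨n, hn, hnN⟩ := exists_invU (c := PicF.cl N) ⟨_, rfl, hN⟩
  obtain ⟨a, ha⟩ := exists_tuple_of_pw p
  rw [hp0, prod_diffCl] at ha
  have hprod : (∏ i, uI (a i))⁻¹ = n := by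
    refine mul_left_cancel (a := uI o ^ g) (ha.symm.trans (Units.ext ?_))
    rw [Units.val_mul, mul_comm, hnN]
    exact hp
  let s : Fin g → (Spec (CommRingCat.of k) ⟶ X) := fun i => (a i).left
  have hs : ∀ i, s i ≫ (X ↘ Spec (CommRingCat.of k)) = 𝟙 _ := fun i => Over.w (a i)
  refine ⟨s, hs, fun t => ?_⟩
  have e : (∏ i, uI (ptX k (s i) (hs i))) = ∏ i, uI (a i) :=
    Finset.prod_congr rfl fun i _ => congrArg uI (Over.OverMorphism.ext (Category.id_comp _))
  rw [e, hprod, hnN]
  have hNc := Groth.L16.ProperFinite.isCoh_of_isInvertible hN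
  exact (mem_goodSet_iff (L := N) rfl t).2
    ⟨(fiberRank_eq_h (K := k) (Y := PicF.XT f (onePt k)) hNc 1 _).trans h1,
      (fiberRank_eq_h (K := k) (Y := PicF.XT f (onePt k)) hNc 0 _).trans hh⟩

/-- Twisting down by rational points does not increase the sections. -/
theorem h0_le_of_cl_eq : ∀ {n : ℕ} (s : Fin n → (Spec (CommRingCat.of k) ⟶ X))
    (_ : ∀ i, s i ≫ (X ↘ Spec (CommRingCat.of k)) = 𝟙 _) {M N : X.Modules}, PicF.IsInvertible M →
    PicF.cl N = PicF.cl M * ∏ i, PicF.cl (ClSub.idealMod (s i).ker) →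
      Module.finrank k (Coh.HH X N 0) ≤ Module.finrank k (Coh.HH X M 0)
  | 0, s, _, M, N, _, e => by
    rw [Fin.prod_univ_zero, mul_one] at e
    obtain ⟨i⟩ := (PicGrp.cl_eq_cl_iff _ _).1 e
    exact (Groth.L21.RR.h_congr k i 0).le
  | n + 1, s, hs, M, N, hM, e => by
    haveI : IsIntegral X := by
      haveI : Subsingleton ↥(Spec (CommRingCat.of k)) := inferInstanceAs (Subsingleton (PrimeSpectrum k))
      haveI : ConnectedSpace ↥(Spec (CommRingCat.of k)) := inferInstanceAs (ConnectedSpace (PrimeSpectrum k))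
      haveI : ConnectedSpace ↥X := GeometricallyConnected.connectedSpace_of_subsingleton (X ↘ Spec (CommRingCat.of k))
      haveI : Smooth (X ↘ Spec (CommRingCat.of k)) := SmoothOfRelativeDimension.smooth 1 _
      exact Groth.L12.HypSq.isIntegral (k := k) (C := X)
    haveI : Smooth (X ↘ Spec (CommRingCat.of k)) := SmoothOfRelativeDimension.smooth 1 _
    have hd : topologicalKrullDim X = 1 := Groth.L03.SurfAdj.dim_of_relDim (X ↘ Spec (CommRingCat.of k)) 1
    have hP := isClosed_point (k := k) (X := X) (s 0) (hs 0)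
    obtain ⟨hM', -, -, hle, -⟩ := Groth.L21.RR.twist_point k hd hM hP
    have h0 : PicF.cl (CohB1.tensorMod M (Groth.L21.RR.ptI _ hP)) = PicF.cl M * PicF.cl (ClSub.idealMod (s 0).ker) := by
      rw [ker_point (s 0) (hs 0)]
      rfl
    refine (h0_le_of_cl_eq (fun i => s i.succ) (fun i => hs i.succ) hM' ?_).trans hle
    rw [e, h0, Fin.prod_univ_succ, mul_assoc]

end Field

end Groth.Agent.L26.JacRat
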