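import Groth.Agent.L26.JacRat.Fam
import Mathlib.CategoryTheory.Monoidal.Cartesian.Grp

/-!
# The group law of a representing object
-/

set_option autoImplicit false
set_option linter.style.haveILetI false
set_option linter.unusedSectionVars false
set_option backward.isDefEq.respectTransparency false
set_option backward.isDefEq.respectTransparency.types false

universe u v

open CategoryTheory CategoryTheory.Limits AlgebraicGeometry MonoidalCategory CartesianMonoidalCategory
open Groth.L25.HomScheme

noncomputable section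

namespace Groth.Agent.L26.JacRat

open Groth.Agent.L26.PicRep
attribute [local instance] Groth.L08.Cube.clMonoid

variable {X S : Scheme.{u}} (f : X ⟶ S) [IsProper f] [SmoothOfRelativeDimension 1 f] [GeometricallyConnected f]
  (σ : S ⟶ X) (hσ : σ ≫ f = 𝟙 S)

/-- Pullback of degree zero classes as a homomorphism. -/
def deg0Map {T T' : Over S} (q : T' ⟶ T) : deg0Sub f σ hσ T →* deg0Sub f σ hσ T' :=
  MonoidHom.mk' (fun x => (⟨mp f q x.1, mp_mem_deg0 f σ hσ q x.2⟩ : deg0Sub f σ hσ T'))
    fun x y => Subtype.ext (map_mul (mp f q) x.1 y.1)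

theorem deg0Map_eq {T T' : Over S} (q : T' ⟶ T) (x : deg0Sub f σ hσ T) :
    deg0Map f σ hσ q x = (deg0Fam f σ hσ).res q x := rfl

/-- The group valued functor. -/
def deg0Fun : (Over S)ᵒᵖ ⥤ GrpCat.{u + 1} where
  obj T := GrpCat.of (deg0Sub f σ hσ T.unop)
  map q := GrpCat.ofHom (deg0Map f σ hσ q.unop)
  map_id T := by
    ext x
    simp only [unop_id, GrpCat.hom_id, GrpCat.hom_ofHom, MonoidHom.id_apply, deg0Map_eq]
    exact congrArg Units.val (congrArg Subtype.val ((deg0Fam f σ hσ).res_id x))
  map_comp p q := by
    ext x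
    simp only [unop_comp, GrpCat.hom_comp, GrpCat.hom_ofHom, MonoidHom.comp_apply, deg0Map_eq]
    exact congrArg Units.val (congrArg Subtype.val ((deg0Fam f σ hσ).res_comp q.unop p.unop x))

/-- Restriction of schemes over `P` to the base. -/
def resP (P : Over S) : Over P.left ⥤ Over S := Over.map P.hom

variable {f σ hσ} {P A : Over S} {r : A ⟶ P} {ξ : (deg0Fam f σ hσ).obj A}

/-- A morphism over `P` as a morphism over the base. -/
def downHom {T : Over P.left} (a : T ⟶ Over.mk r.left) : (resP P).obj T ⟶ A :=
  Over.homMk a.left (by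
    show a.left ≫ A.hom = T.hom ≫ P.hom
    rw [← Over.w r, ← Category.assoc]
    exact congrArg (· ≫ P.hom) (Over.w a))

/-- A representing object over `P` represents the group valued functor. -/
def repByOn (h : (deg0Fam f σ hσ).IsRepOn r ξ) :
    (((resP P).op ⋙ deg0Fun f σ hσ) ⋙ forget GrpCat.{u + 1}).RepresentableBy (Over.mk r.left) where
  homEquiv {T} := Equiv.ofBijective (fun a => (deg0Fam f σ hσ).res (downHom a) ξ) ⟨fun a b hab => by
      have e : downHom a = downHom b :=
        h.ext (Over.OverMorphism.ext ((Over.w a).trans (Over.w b).symm)) hab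
      exact Over.OverMorphism.ext (congrArg (fun m : (resP P).obj T ⟶ A => m.left) e :),
    fun x => by
      obtain ⟨a, ⟨ha, hax⟩, -⟩ := h ((resP P).obj T) (Over.homMk T.hom rfl) x
      let b : T ⟶ Over.mk r.left := Over.homMk a.left (congrArg CommaMorphism.left ha)
      exact ⟨b, (congrArg (fun m => (deg0Fam f σ hσ).res m ξ)
        (show downHom b = a from Over.OverMorphism.ext rfl)).trans hax⟩⟩
  homEquiv_comp {T T'} g a := by
    simp only [Functor.comp_map, Equiv.ofBijective_apply]
    refine Eq.trans ?_ (deg0Map_eq f σ hσ ((resP P).map g) _).symm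
    rw [← (deg0Fam f σ hσ).res_comp]
    exact congrArg (fun m => (deg0Fam f σ hσ).res m ξ) (Over.OverMorphism.ext rfl)

/-- The group law over `P`. -/
@[reducible] def grpObjOn (h : (deg0Fam f σ hσ).IsRepOn r ξ) : GrpObj (Over.mk r.left) :=
  GrpObj.ofRepresentableBy _ _ (repByOn h)

/-- A representing object represents the group valued functor. -/
def repBy (h : (deg0Fam f σ hσ).IsRep A ξ) :
    (deg0Fun f σ hσ ⋙ forget GrpCat.{u + 1}).RepresentableBy A where
  homEquiv {T} := Equiv.ofBijective (fun a => (deg0Fam f σ hσ).res a ξ) ⟨fun a b hab => h.ext hab,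
    fun x => (h T x).exists⟩
  homEquiv_comp g a := by
    simp only [Functor.comp_map, Equiv.ofBijective_apply]
    exact ((deg0Fam f σ hσ).res_comp g a ξ).trans (deg0Map_eq f σ hσ g _).symm

/-- The group law. -/
@[reducible] def grpObjRep (h : (deg0Fam f σ hσ).IsRep A ξ) : GrpObj A :=
  GrpObj.ofRepresentableBy _ _ (repBy h)

end Groth.Agent.L26.JacRat
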