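import Groth.Agent.L26.JacRat.Group
import Mathlib.AlgebraicGeometry.Group.Abelian

/-!
# The group law on a representing object in terms of classes
-/

set_option autoImplicit false
set_option linter.style.haveILetI false
set_option linter.unusedSectionVars false
set_option backward.isDefEq.respectTransparency false
set_option backward.isDefEq.respectTransparency.types false

universe u v

open CategoryTheory CategoryTheory.Limits AlgebraicGeometry MonoidalCategory CartesianMonoidalCategory MonObj
open Groth.L25.HomScheme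

noncomputable section

namespace Groth.Agent.L26.JacRat

open Groth.Agent.L26.PicRep
attribute [local instance] Groth.L08.Cube.clMonoid

variable {X S : Scheme.{u}} {f : X ⟶ S} [IsProper f] [SmoothOfRelativeDimension 1 f] [GeometricallyConnected f]
  {σ : S ⟶ X} {hσ : σ ≫ f = 𝟙 S} {A : Over S} {ξ : (deg0Fam f σ hσ).obj A}

/-- The class of a point. -/
def valAt (ξ : (deg0Fam f σ hσ).obj A) {T : Over S} (a : T ⟶ A) : (PicF.Cl (PicF.XT f T))ˣ := mp f a ξ.1

theorem valAt_comp {T T' : Over S} (q : T' ⟶ T) (a : T ⟶ A) : valAt ξ (q ≫ a) = mp f q (valAt ξ a) :=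
  mp_comp q a _

theorem valAt_mem {T : Over S} (a : T ⟶ A) : valAt ξ a ∈ deg0Sub f σ hσ T := mp_mem_deg0 f σ hσ a ξ.2

theorem valAt_inj (h : (deg0Fam f σ hσ).IsRep A ξ) {T : Over S} {a b : T ⟶ A}
    (e : valAt ξ a = valAt ξ b) : a = b := h.ext (Subtype.ext e)

theorem valAt_mul_μ (h : (deg0Fam f σ hσ).IsRep A ξ) :
    letI := grpObjRep h
    valAt ξ μ[A] = valAt ξ (fst A A) * valAt ξ (snd A A) := by
  letI := grpObjRep h
  exact congrArg Subtype.val (Equiv.apply_symm_apply (repBy h).homEquiv
    ((repBy h).homEquiv (fst A A) * (repBy h).homEquiv (snd A A)))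

theorem valAt_mul (h : (deg0Fam f σ hσ).IsRep A ξ) {T : Over S} (a b : T ⟶ A) :
    letI := grpObjRep h
    valAt ξ (a * b) = valAt ξ a * valAt ξ b := by
  letI := grpObjRep h
  show valAt ξ (lift a b ≫ μ[A]) = _
  rw [valAt_comp, valAt_mul_μ h, map_mul, ← valAt_comp, ← valAt_comp, lift_fst, lift_snd]

theorem valAt_one (h : (deg0Fam f σ hσ).IsRep A ξ) (T : Over S) :
    letI := grpObjRep h
    valAt ξ (1 : T ⟶ A) = 1 := by
  letI := grpObjRep h
  have e := valAt_mul h (1 : T ⟶ A) 1
  rw [_root_.mul_one] at e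
  exact left_eq_mul.1 e

theorem valAt_prod {k : Type u} [Field k] {X : Scheme.{u}} {f : X ⟶ Spec (CommRingCat.of k)} [IsProper f]
    [SmoothOfRelativeDimension 1 f] [GeometricallyConnected f] {σ : Spec (CommRingCat.of k) ⟶ X}
    {hσ : σ ≫ f = 𝟙 _} {A : Over (Spec (CommRingCat.of k))} {ξ : (deg0Fam f σ hσ).obj A}
    (h : (deg0Fam f σ hσ).IsRep A ξ) [IsProper A.hom] [GeometricallyIntegral A.hom]
    {T : Over (Spec (CommRingCat.of k))} {n : ℕ} (a : Fin n → (T ⟶ A)) :
    letI := grpObjRep h
    haveI := isCommMonObj_of_isProper_of_geometricallyIntegral A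
    valAt ξ (∏ i, a i) = ∏ i, valAt ξ (a i) := by
  letI := grpObjRep h
  haveI := isCommMonObj_of_isProper_of_geometricallyIntegral A
  induction n with
  | zero => rw [Fin.prod_univ_zero, Fin.prod_univ_zero, valAt_one h]
  | succ n ih => rw [Fin.prod_univ_succ, Fin.prod_univ_succ, valAt_mul h, ih]

end Groth.Agent.L26.JacRat
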