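import Groth.Agent.L26.JacRat.Rep
import Groth.Agent.L26.JacRat.Descend
import Groth.Agent.L26.JacRat.Ample
import Groth.Agent.L26.PicRep.Curve
import Groth.Agent.L20.SchDesc.FinLocFree
import Groth.Agent.L18.AmpleAvoid
import Groth.Agent.S0086
import Mathlib.AlgebraicGeometry.Morphisms.LocalFlatDescent

/-!
# The Jacobian of a curve with a rational point
-/

set_option autoImplicit false
set_option linter.style.haveILetI false
set_option linter.unusedSectionVars false
set_option backward.isDefEq.respectTransparency false
set_option backward.isDefEq.respectTransparency.types false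

universe u

open CategoryTheory CategoryTheory.Limits AlgebraicGeometry MonoidalCategory CartesianMonoidalCategory
open Groth.L25.HomScheme

noncomputable section

namespace Groth.Agent.L26.JacRat

open Groth.Agent.L26.PicRep
attribute [local instance] Groth.L08.Cube.clMonoid Groth.Agent.L26.PicSm.curveOver

variable (k : Type u) [Field k] {X : Scheme.{u}} [X.Over (Spec (CommRingCat.of k))]
  [IsProper (X ↘ Spec (CommRingCat.of k))] [SmoothOfRelativeDimension 1 (X ↘ Spec (CommRingCat.of k))]
  [GeometricallyConnected (X ↘ Spec (CommRingCat.of k))]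
  (σ : Spec (CommRingCat.of k) ⟶ X) (hσ : σ ≫ (X ↘ Spec (CommRingCat.of k)) = 𝟙 _)

local notation "fX" => (X ↘ Spec (CommRingCat.of k))

include hσ in
theorem isIso_app (T : Over (Spec (CommRingCat.of k))) (U : T.left.Opens) : IsIso ((PicF.XTproj fX T).app U) := by
  haveI : Smooth fX := SmoothOfRelativeDimension.smooth 1 _
  haveI : GeometricallyReduced fX := Groth.L16.SecComp.geometricallyReduced_of_smooth fX
  haveI : Surjective fX := ⟨fun s => ⟨σ s, by rw [← Scheme.Hom.comp_apply, hσ]; rfl⟩⟩
  exact Groth.L20.DescLocus.isIso_app_baseChange fX T.left T.hom U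

/-- The genus of geometric base changes. -/
theorem genus_geometric (K : Type u) [Field K] [IsAlgClosed K]
    (τ : Spec (CommRingCat.of K) ⟶ Spec (CommRingCat.of k)) :
    Curv2.genus K (PicF.XT fX (Over.mk τ)) = Curv2.genus k X := by
  letI : Algebra k K := (Spec.preimage τ).hom.toAlgebra
  have hτ : Spec.map (CommRingCat.ofHom (algebraMap k K)) = τ := Spec.map_preimage τ
  exact Groth.L21.RR.genus_bc (k := k) (K := K) (pullback.fst fX τ) (by
    rw [hτ]; exact IsPullback.of_hasPullback fX τ)

include hσ in
/-- The degree zero rigidified classes are represented by an abelian variety. -/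
theorem exists_jacobian :
    ∃ (J : Over (Spec (CommRingCat.of k))) (ξ : (deg0Fam fX σ hσ).obj J),
      (deg0Fam fX σ hσ).IsRep J ξ ∧ IsProper J.hom ∧ Smooth J.hom ∧ GeometricallyIntegral J.hom := by
  haveI : Smooth fX := SmoothOfRelativeDimension.smooth 1 _
  haveI : ConnectedSpace ↥X := by
    haveI : Subsingleton ↥(Spec (CommRingCat.of k)) := inferInstanceAs (Subsingleton (PrimeSpectrum k))
    haveI : ConnectedSpace ↥(Spec (CommRingCat.of k)) := inferInstanceAs (ConnectedSpace (PrimeSpectrum k))
    exact GeometricallyConnected.connectedSpace_of_subsingleton fX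
  haveI : IsIntegral X := Groth.L12.HypSq.isIntegral (k := k) (C := X)
  have hd : topologicalKrullDim X = 1 := Groth.L03.SurfAdj.dim_of_relDim fX 1
  have hrep : ∀ e : ℕ, HilbD.Representable fX e := fun e =>
    Groth.Agent.S1166.result fX e fun _ x _ => exists_affine_tuple k hd x
  obtain ⟨L, hL, A, r, ξ₁, hA, hpr, hsm, hint⟩ :=
    exists_repOn σ hσ (fun K _ _ τ => genus_geometric k K τ) hrep (isIso_app k σ hσ)
  let P := extObj k L
  haveI : IsFinite P.hom := (IsFinite.SpecMap_iff _).2 (RingHom.finite_algebraMap.2 hL)
  haveI : Surjective P.hom := ⟨fun x => ⟨IsLocalRing.closedPoint L, Subsingleton.elim (α := PrimeSpectrum k) _ x⟩⟩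
  haveI : Flat P.hom := inferInstance
  haveI : LocallyOfFinitePresentation P.hom := inferInstance
  haveI := hpr; haveI := hsm; haveI := hint
  letI : GrpObj (Over.mk r.left) := grpObjOn hA
  haveI : IsProper (Over.mk r.left).hom := hpr
  haveI : GeometricallyIntegral (Over.mk r.left).hom := hint
  obtain ⟨M, hM⟩ := exists_isAmple (k := ↥L) (Over.mk r.left)
  have heff : ∀ D : Groth.L20.SchDesc.Pre P.hom r.left, Groth.L20.SchDesc.Effective D := fun D =>
    Groth.L20.SchDesc.effective_of_orbit_subset_affine D fun v => by
      obtain ⟨n, s, hs, -, hsa⟩ := Groth.L18.Ample.exists_pow_genLocus_of_isAmple hM _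
        (Groth.L20.SchDesc.finite_orbit D v) ⊤ fun _ _ => trivial
      exact ⟨_, hsa, fun w hw => hs hw⟩
  haveI hcov : ∀ T : Over (Spec (CommRingCat.of k)), Flat (fst T P).left ∧
      LocallyOfFinitePresentation (fst T P).left ∧ Surjective (fst T P).left := fun T =>
    ⟨inferInstanceAs (Flat (pullback.fst T.hom P.hom)),
      inferInstanceAs (LocallyOfFinitePresentation (pullback.fst T.hom P.hom)),
      inferInstanceAs (Surjective (pullback.fst T.hom P.hom))⟩
  obtain ⟨J, ξ, hJ, q, sq, -⟩ := exists_rep_of_effective heff hA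
    (fun T => haveI := (hcov T).1; haveI := (hcov T).2.1; haveI := (hcov T).2.2
      sep_deg0 (isIso_app k σ hσ) (fst T P))
    (fun T => haveI := (hcov T).1; haveI := (hcov T).2.1; haveI := (hcov T).2.2
      desc_deg0 (isIso_app k σ hσ) (fst T P))
  have hQ : (@Surjective ⊓ @Flat ⊓ @QuasiCompact : MorphismProperty Scheme.{u}) P.hom :=
    ⟨⟨inferInstance, inferInstance⟩, inferInstance⟩
  haveI := Groth.Agent.S0086.result.{u}
  haveI hp : IsProper J.hom :=
    MorphismProperty.of_isPullback_of_descendsAlong (P := @IsProper) (Q := @Surjective ⊓ @Flat ⊓ @QuasiCompact)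
      sq hQ hpr
  haveI hs : Smooth J.hom :=
    MorphismProperty.of_isPullback_of_descendsAlong (P := @Smooth) (Q := @Surjective ⊓ @Flat ⊓ @QuasiCompact)
      sq hQ hsm
  haveI : Surjective q.left := MorphismProperty.of_isPullback (P := @Surjective) sq inferInstance
  haveI : GeometricallyConnected r.left := inferInstance
  haveI : Subsingleton ↥P.left := inferInstanceAs (Subsingleton (PrimeSpectrum L))
  haveI : ConnectedSpace ↥P.left := inferInstanceAs (ConnectedSpace (PrimeSpectrum L))
  haveI : ConnectedSpace ↥A.left := GeometricallyConnected.connectedSpace_of_subsingleton r.left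
  haveI : ConnectedSpace ↥J.left := q.left.surjective.connectedSpace q.left.continuous
  haveI : GeometricallyReduced J.hom := Groth.L16.SecComp.geometricallyReduced_of_smooth J.hom
  letI : GrpObj J := grpObjRep hJ
  exact ⟨J, ξ, hJ, hp, hs, Groth.Agent.AV.geometricallyIntegral_of_connected J⟩

end Groth.Agent.L26.JacRat
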