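import Groth.Agent.L26.JacRat.GoodPts
import Groth.Agent.L21.Duality.SpecialApps

/-!
# The drop of `h¹` when adding a point
-/

set_option autoImplicit false
set_option linter.style.haveILetI false
set_option linter.unusedSectionVars false
set_option backward.isDefEq.respectTransparency false
set_option backward.isDefEq.respectTransparency.types false

universe u

open CategoryTheory CategoryTheory.Limits AlgebraicGeometry

noncomputable section

namespace Groth.Agent.L26.JacRat

open Groth.Agent.L26.PicRep Groth.Agent.L26.PicSm Groth.Agent.Elliptic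
open Groth.L21.RR (h ptI)
open Groth.L00.Tensor (tensorAssoc tensorComm tensorIso tensorUnitLeft tensorUnitRight)
attribute [local instance] Groth.L08.Cube.clMonoid Groth.Agent.L26.PicSm.curveOver

section Alg

variable {K : Type u} [Field K] [IsAlgClosed K] {X : Scheme.{u}} [IsIntegral X]
  [X.Over (Spec (CommRingCat.of K))] [IsProper (X ↘ Spec (CommRingCat.of K))]
  [Smooth (X ↘ Spec (CommRingCat.of K))] (hd : topologicalKrullDim X = 1)

include hd in
theorem h1_bounds {M L : X.Modules} (hM : PicF.IsInvertible M) {P : X} (hP : IsClosed ({P} : Set X))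
    (e : CohB1.tensorMod M (ptI P hP) ≅ L) : h K 1 M ≤ h K 1 L ∧ h K 1 L ≤ h K 1 M + 1 := by
  haveI := Groth.L21.RR.isNoetherian_of_proper (X := X) K
  obtain ⟨-, he, -, h1, h2, -⟩ := Groth.L21.RR.twist_point K hd hM hP
  rw [Groth.L21.RR.euler_congr K e, Groth.L21.RR.euler_eq K hd.le, Groth.L21.RR.euler_eq K hd.le] at he
  rw [Groth.L21.RR.h_congr K e 0] at h1 h2
  omega

include hd in
theorem exists_drop (h0 : h K 0 (Coh.structureModule X) = 1) {L : X.Modules} (hL : PicF.IsInvertible L)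
    (hpos : 0 < h K 1 L) :
    ∃ (P : X) (hP : IsClosed ({P} : Set X)) (M : X.Modules), PicF.IsInvertible M ∧
      Nonempty (CohB1.tensorMod M (ptI P hP) ≅ L) ∧ h K 1 M + 1 = h K 1 L := by
  haveI := Groth.L21.RR.isNoetherian_of_proper (X := X) K
  obtain ⟨N, hN, ⟨e⟩, hN0, -⟩ := Groth.L21.Duality.exists_dual (k := K) hd hL
  haveI := Groth.L21.Duality.nontrivial_of_h0_pos (k := K) (L := N) (by omega)
  obtain ⟨t, ht⟩ := Groth.L21.RR.exists_hom_ne_zero (L := N)
  haveI : JacobsonSpace X := LocallyOfFiniteType.jacobsonSpace (X ↘ Spec (CommRingCat.of K))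
  obtain ⟨P, hPt, hP⟩ : ∃ P : X, P ∈ CohB1.genLocus N t ∧ IsClosed ({P} : Set X) := by
    have hne : ((CohB1.genLocus N t : X.Opens) : Set X).Nonempty :=
      ⟨genericPoint X, (Groth.L21.RR.mem_genLocus_iff hN t _).2 (Groth.L21.RR.surjective_st_of_not_closed hd.le hN ht
        fun hc => ne_of_apply_ne id (Groth.L21.RR.ne_genericPoint_of_isClosed hd hc) rfl)⟩
    obtain ⟨P, h1, h2⟩ := nonempty_inter_closedPoints hne (CohB1.genLocus N t).2.isLocallyClosed
    exact ⟨P, h1, h2⟩
  obtain ⟨hN', -, -, -, -, hiff⟩ := Groth.L21.RR.twist_point K hd hN hP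
  have hdrop := hiff.2 ⟨t, (Groth.L21.RR.mem_genLocus_iff hN t P).1 hPt⟩
  obtain ⟨hI, -⟩ := Groth.L21.Duality.deg_ptI (k := K) hd hP
  obtain ⟨D, hD, ⟨c⟩⟩ := Groth.L08.Cube.exists_inverse hI
  have hLD := Groth.L18.GenLoc.isInvertible_tensor hL hD
  let u : CohB1.tensorMod (CohB1.tensorMod N (ptI P hP)) (CohB1.tensorMod L D) ≅
      Omega.sheaf (X ↘ Spec (CommRingCat.of K)) :=
    tensorAssoc N (ptI P hP) _ ≪≫ tensorIso (Iso.refl N) (tensorComm (ptI P hP) _ ≪≫ tensorAssoc L D _ ≪≫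
      tensorIso (Iso.refl L) (tensorComm D (ptI P hP) ≪≫ c) ≪≫ tensorUnitRight L) ≪≫ e
  have h1 := (Groth.L21.Duality.duality (k := K) hd hN' hLD u).1
  exact ⟨P, hP, _, hLD, ⟨tensorAssoc L D _ ≪≫ tensorIso (Iso.refl L) (tensorComm D (ptI P hP) ≪≫ c) ≪≫
    tensorUnitRight L⟩, by omega⟩

end Alg

end Groth.Agent.L26.JacRat
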