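import Groth.Agent.L26.JacRat.Chart
import Groth.Agent.L26.JacRat.Points
import Groth.Agent.L26.JacRat.Group
import Groth.Agent.L26.AV.GroupSep
import Groth.Agent.L26.AV.Hom
import Groth.Agent.L16.SecComp.Smooth
import Groth.Agent.S1169
import Groth.Agent.L26.PicSm.Jacobian
import Groth.Agent.L21.RR.BaseChange

/-!
# The Jacobian over a finite extension
-/

set_option autoImplicit false
set_option linter.style.haveILetI false
set_option linter.unusedSectionVars false
set_option backward.isDefEq.respectTransparency false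
set_option backward.isDefEq.respectTransparency.types false

universe u

open CategoryTheory CategoryTheory.Limits AlgebraicGeometry MonoidalCategory CartesianMonoidalCategory
open Groth.L25.HomScheme

noncomputable section

namespace Groth.Agent.L26.JacRat

open Groth.Agent.L26.PicRep Groth.Agent.L26.PicSm Groth.Agent.Elliptic
attribute [local instance] Groth.L08.Cube.clMonoid Groth.Agent.L26.PicSm.curveOver

section General

variable {X S : Scheme.{u}} {f : X ⟶ S} [IsProper f] [SmoothOfRelativeDimension 1 f] [GeometricallyConnected f]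
  (σ : S ⟶ X) (hσ : σ ≫ f = 𝟙 S) {g : ℕ}

/-- The classes over a geometric point of a scheme are pulled back from the power. -/
theorem exists_point_pw {T : Over S} (x : (deg0Fam f σ hσ).obj T) (t : T.left)
    (hgK : ∀ (K : Type u) [Field K] [IsAlgClosed K] (τ : Spec (CommRingCat.of K) ⟶ S),
      Curv2.genus K (PicF.XT f (Over.mk τ)) = g) :
    ∃ (K : Type u) (_ : Field K) (τ : Spec (CommRingCat.of K) ⟶ S) (a : Over.mk τ ⟶ T)
      (v : Over.mk τ ⟶ pw f g), a.left (IsLocalRing.closedPoint K) = t ∧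
        mp f a x.1 = mp f v (δV f σ hσ g) := by
  let Ω := AlgebraicClosure (T.left.residueField t)
  let pt : Spec (CommRingCat.of Ω) ⟶ T.left :=
    Spec.map (CommRingCat.ofHom (algebraMap (T.left.residueField t) Ω)) ≫ T.left.fromSpecResidueField t
  let τ : Spec (CommRingCat.of Ω) ⟶ S := pt ≫ T.hom
  let a : Over.mk τ ⟶ T := Over.homMk pt rfl
  have hy := mp_mem_deg0 f σ hσ a x.2
  obtain ⟨v, -, hv⟩ := exists_pw_of_isPicZeroCl τ ((isPicZeroCl_iff_degU hy.1.1).2 hy.2)
    (origin (Over.mk τ) σ hσ) (genus_le_one_add τ (hgK Ω τ))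
  refine ⟨Ω, inferInstance, τ, a, v, ?_, ?_⟩
  · show pt _ = t
    rw [Scheme.Hom.comp_apply]
    exact Scheme.fromSpecResidueField_apply t _
  · have hv' : mp f v (pwCl (f := f) g) = mp f a x.1 := Units.ext hv
    rw [mp_δV, hv', nrm_of_mem σ hσ hy.1]

variable {H : Over S} (Z : HilbD.Obj f g H) {P : Over S}

theorem charts_cover {r : ℕ} (q : Fin r → (P ⟶ pw f g))
    (hgK : ∀ (K : Type u) [Field K] [IsAlgClosed K] (τ : Spec (CommRingCat.of K) ⟶ S),
      Curv2.genus K (PicF.XT f (Over.mk τ)) = g)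
    (hq : ∀ z : (pw f g ⊗ P).left, ∃ j, z ∈ goodSet f _ ((mp f (fst (pw f g) P) (δV f σ hσ g) *
      mp f (snd (pw f g) P) (mp f (q j) (ηV f σ hσ g)) :
        (PicF.Cl (PicF.XT f (pw f g ⊗ P)))ˣ) : PicF.Cl (PicF.XT f (pw f g ⊗ P))))
    (T : Over S) (x : (overFam (deg0Fam f σ hσ) P).obj T) (t : T.left) :
    ∃ j : ULift.{u} (Fin r), t ∈ twLocus σ hσ (mp_mem σ hσ (q j.down) (ηV_mem σ hσ g)) x := by
  obtain ⟨K, _, τ, a, v, hat, hv⟩ := exists_point_pw σ hσ x.1 t hgK
  let l : Over.mk τ ⟶ pw f g ⊗ P := lift v (a ≫ x.2)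
  obtain ⟨j, hj⟩ := hq (l.left (IsLocalRing.closedPoint K))
  refine ⟨⟨j⟩, ?_⟩
  let cP : (PicF.Cl (PicF.XT f (pw f g ⊗ P)))ˣ := mp f (fst (pw f g) P) (δV f σ hσ g) *
    mp f (snd (pw f g) P) (mp f (q j) (ηV f σ hσ g))
  have hcP : cP ∈ invU _ := (invU _).mul_mem (mp_mem σ hσ _ (δV_mem σ hσ g).1).1
    (mp_mem σ hσ _ (mp_mem σ hσ _ (ηV_mem σ hσ g))).1
  let cT : (PicF.Cl (PicF.XT f T))ˣ := x.1.1 * mp f x.2 (mp f (q j) (ηV f σ hσ g))
  have hcT : cT ∈ invU _ := (invU _).mul_mem x.1.2.1.1 (mp_mem σ hσ _ (mp_mem σ hσ _ (ηV_mem σ hσ g))).1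
  have h1 : mp f l cP = mp f a cT := by
    rw [map_mul, map_mul, ← mp_comp l, lift_fst, ← mp_comp l (snd (pw f g) P), lift_snd, hv, mp_comp a x.2]
  have h2 := goodSet_pull l hcP.1
  rw [show PicF.pullCl (PicF.XTmap f l) (cP : PicF.Cl (PicF.XT f (pw f g ⊗ P))) = _ from congrArg Units.val h1] at h2
  have h3 := goodSet_pull a hcT.1
  have h4 : IsLocalRing.closedPoint K ∈ a.left ⁻¹' goodSet f T (cT : PicF.Cl (PicF.XT f T)) := by
    rw [← h3]
    exact h2.ge hj
  rw [Set.mem_preimage, hat] at h4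
  exact h4

end General

section Field

variable {k : Type u} [Field k] {X : Scheme.{u}} {f : X ⟶ Spec (CommRingCat.of k)} [IsProper f]
  [SmoothOfRelativeDimension 1 f] [GeometricallyConnected f] (σ : Spec (CommRingCat.of k) ⟶ X)
  (hσ : σ ≫ f = 𝟙 _) {g : ℕ}

include hσ in
/-- Over a finite extension the degree zero classes are represented by an abelian variety. -/
theorem exists_repOn (hgK : ∀ (K : Type u) [Field K] [IsAlgClosed K] (τ : Spec (CommRingCat.of K) ⟶ Spec (CommRingCat.of k)),
      Curv2.genus K (PicF.XT f (Over.mk τ)) = g)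
    (hrep : ∀ e : ℕ, HilbD.Representable f e)
    (ha : ∀ (T : Over (Spec (CommRingCat.of k))) (U : T.left.Opens), IsIso ((PicF.XTproj f T).app U)) :
    ∃ (L : IntermediateField k (AlgebraicClosure k)) (_ : FiniteDimensional k L)
      (A : Over (Spec (CommRingCat.of k))) (r : A ⟶ extObj k L) (ξ : (deg0Fam f σ hσ).obj A),
      (deg0Fam f σ hσ).IsRepOn r ξ ∧ IsProper r.left ∧ Smooth r.left ∧ GeometricallyIntegral r.left := by
  obtain ⟨L, hL, n, q, hq⟩ := exists_twists σ hσ (fun τ => hgK _ τ)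
  obtain ⟨H, Z, hZ⟩ := hrep g
  have hg : GenusEq f g := fun s => by
    let Ω := AlgebraicClosure ((Spec (CommRingCat.of k)).residueField s)
    letI := Groth.Agent.Elliptic.fibOver f s
    have he := euler_extPt (f := f) (K := Ω) s
    rw [euler_curve (f := f) (extPt (S := Spec (CommRingCat.of k)) s Ω), hgK Ω] at he
    haveI := isProper_fibre f s
    rw [Groth.L21.RR.euler_eq ((Spec (CommRingCat.of k)).residueField s) (dim_fibre f s).le, h0_fibre f s] at he
    omega
  obtain ⟨A, r, ξ, hA, c, hc, hcov⟩ := exists_isRepOn_of_charts σ hσ Z hg hZ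
    (fun j : ULift.{u} (Fin n) => mp f (q j.down) (ηV f σ hσ g))
    (fun j => mp_mem σ hσ (q j.down) (ηV_mem σ hσ g)) ha (charts_cover σ hσ q hgK hq)
  let P := extObj k L
  -- smoothness
  haveI : Smooth H.hom := Groth.Agent.S1169.result f hrep g H Z hZ
  haveI : Smooth (snd H P).left := inferInstanceAs (Smooth (pullback.snd H.hom P.hom))
  haveI hsm : Smooth r.left := by
    refine IsZariskiLocalAtSource.of_openCover hcov.cover fun i => ?_
    show Smooth ((c i).left ≫ r.left)
    rw [show (c i).left ≫ r.left = (twIncl σ hσ Z (mp_mem σ hσ (q i.down) (ηV_mem σ hσ g))).left ≫ (snd H P).left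
      from congrArg CommaMorphism.left (hc i)]
    infer_instance
  -- the power covers
  let V := pw f g
  haveI : IsProper V.hom := isProper_pw g
  haveI : Smooth V.hom := smooth_pw g
  haveI : GeometricallyConnected V.hom := geometricallyConnected_pw g
  haveI : IsProper (snd V P).left := inferInstanceAs (IsProper (pullback.snd V.hom P.hom))
  haveI : GeometricallyConnected (snd V P).left := inferInstanceAs (GeometricallyConnected (pullback.snd V.hom P.hom))
  haveI : Smooth (snd V P).left := inferInstanceAs (Smooth (pullback.snd V.hom P.hom))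
  obtain ⟨ψ, ⟨hψ, hψξ⟩, -⟩ := hA (V ⊗ P) (snd V P) ((deg0Fam f σ hσ).res (fst V P) ⟨δV f σ hσ g, δV_mem σ hσ g⟩)
  haveI : Surjective ψ.left := ⟨fun z => by
    obtain ⟨K, _, τ, a, v, haz, hv⟩ := exists_point_pw σ hσ ξ z hgK
    have e : lift v (a ≫ r) ≫ ψ = a := hA.ext (by rw [Category.assoc, hψ, lift_snd]) (by
      rw [(deg0Fam f σ hσ).res_comp, hψξ, ← (deg0Fam f σ hσ).res_comp, lift_fst]
      refine Subtype.ext ?_
      rw [deg0Fam_res_val, deg0Fam_res_val]
      exact hv.symm)
    exact ⟨(lift v (a ≫ r)).left (IsLocalRing.closedPoint K),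
      (congrArg (fun m : Over.mk τ ⟶ A => m.left (IsLocalRing.closedPoint K)) e).trans haz⟩⟩
  letI : GrpObj (Over.mk r.left) := grpObjOn hA
  haveI : IsSeparated r.left := Groth.Agent.AV.isSeparated_of_grpObj (k := ↥L) (Over.mk r.left)
  have hψl : ψ.left ≫ r.left = (snd V P).left := congrArg CommaMorphism.left hψ
  haveI : IsProper (ψ.left ≫ r.left) := by rw [hψl]; infer_instance
  haveI : UniversallyClosed r.left := UniversallyClosed.of_comp_surjective ψ.left _
  haveI hpr : IsProper r.left := IsProper.mk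
  haveI : GeometricallyReduced r.left := Groth.L16.SecComp.geometricallyReduced_of_smooth r.left
  haveI : ConnectedSpace ↥P.left := inferInstanceAs (ConnectedSpace (PrimeSpectrum L))
  haveI : Subsingleton ↥P.left := inferInstanceAs (Subsingleton (PrimeSpectrum L))
  haveI : ConnectedSpace ↥(V ⊗ P).left := GeometricallyConnected.connectedSpace_of_subsingleton (snd V P).left
  haveI : ConnectedSpace (Over.mk r.left).left := ψ.left.surjective.connectedSpace ψ.left.continuous
  haveI : LocallyOfFiniteType (Over.mk r.left).hom := inferInstanceAs (LocallyOfFiniteType r.left)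
  haveI : GeometricallyReduced (Over.mk r.left).hom := inferInstanceAs (GeometricallyReduced r.left)
  exact ⟨L, hL, A, r, ξ, hA, hpr, hsm,
    Groth.Agent.AV.geometricallyIntegral_of_connected (K := ↥L) (Over.mk r.left)⟩

end Field

end Groth.Agent.L26.JacRat
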