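import Groth.Agent.L16.EtaleFibre.ResExt
import Mathlib.FieldTheory.Galois.Basic
import Mathlib.FieldTheory.Normal.Closure
import Mathlib.LinearAlgebra.FreeModule.Finite.Matrix

/-!
# A splitting field of an étale algebra of bounded degree
-/

set_option autoImplicit false

universe u

namespace Groth.Agent.L26.SplitBound

open IntermediateField

/-- An étale algebra of dimension `n` is split by a separable extension of degree at most `n!`. -/
theorem exists_split (K : Type u) [Field K] (G : Type u) [CommRing G] [Algebra K G] [Algebra.Etale K G] :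
    ∃ (L : Type u) (_ : Field L) (_ : Algebra K L), FiniteDimensional K L ∧ Algebra.IsSeparable K L ∧
      Module.finrank K L ≤ (Module.finrank K G).factorial ∧
      Nat.card (G →ₐ[K] L) = Module.finrank K G := by
  classical
  haveI : Module.Finite K G := Algebra.FormallyUnramified.finite_of_free K G
  let Ω := SeparableClosure K
  obtain ⟨L₀, _, _, hfin₀, hsep₀, τ, hτ⟩ := Groth.L16.EtaleFibre.exists_separable_points K G
  haveI := hfin₀; haveI := hsep₀
  let j : L₀ →ₐ[K] Ω := IsSepClosed.lift
  have hcard : Nat.card (G →ₐ[K] Ω) = Module.finrank K G := by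
    refine le_antisymm (card_algHom_le_finrank _ _ _) ?_
    haveI : Finite (G →ₐ[K] Ω) := inferInstance
    calc Module.finrank K G = Nat.card (Fin (Module.finrank K G)) := (Nat.card_fin _).symm
      _ ≤ Nat.card (G →ₐ[K] Ω) := Nat.card_le_card_of_injective (fun i => j.comp (τ i)) fun a b h =>
          hτ (AlgHom.ext fun g => j.injective (AlgHom.congr_fun h g))
  let b := Module.finBasis K G
  let s₀ : Set Ω := Set.range fun x : (G →ₐ[K] Ω) × Fin (Module.finrank K G) => x.1 (b x.2)
  let F := IntermediateField.adjoin K s₀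
  haveI : Finite s₀ := (Set.finite_range _).to_subtype
  haveI : FiniteDimensional K F :=
    IntermediateField.finiteDimensional_adjoin fun x _ => Algebra.IsSeparable.isIntegral K x
  have hmem : ∀ (φ : G →ₐ[K] Ω) (g : G), φ g ∈ F := fun φ g => by
    rw [← b.sum_repr g, map_sum]
    exact sum_mem fun i _ => by
      rw [map_smul]
      exact F.smul_mem (IntermediateField.subset_adjoin K s₀ ⟨(φ, i), rfl⟩)
  haveI : Normal K F := by
    rw [normal_iff_forall_map_le]
    intro σ
    rw [IntermediateField.adjoin_map, IntermediateField.adjoin_le_iff]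
    rintro _ ⟨_, ⟨⟨φ, i⟩, rfl⟩, rfl⟩
    exact hmem (σ.comp φ) _
  haveI : IsGalois K F := ⟨⟩
  let e : (G →ₐ[K] F) ≃ (G →ₐ[K] Ω) :=
    { toFun := fun φ => F.val.comp φ
      invFun := fun φ => φ.codRestrict F.toSubalgebra (hmem φ)
      left_inv := fun φ => AlgHom.ext fun g => Subtype.ext rfl
      right_inv := fun φ => AlgHom.ext fun g => rfl }
  refine ⟨F, inferInstance, inferInstance, inferInstance, inferInstance, ?_, (Nat.card_congr e).trans hcard⟩
  rw [← IsGalois.card_aut_eq_finrank K F, ← hcard, ← Nat.card_congr e]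
  letI : Fintype (G →ₐ[K] F) := Fintype.ofFinite _
  rw [show (Nat.card (G →ₐ[K] F)).factorial = Nat.card (Equiv.Perm (G →ₐ[K] F)) by
    rw [Nat.card_eq_fintype_card, Nat.card_eq_fintype_card, Fintype.card_perm]]
  refine Nat.card_le_card_of_injective
    (fun σ : F ≃ₐ[K] F => (⟨fun φ => σ.toAlgHom.comp φ, fun φ => σ.symm.toAlgHom.comp φ,
      fun φ => AlgHom.ext fun g => σ.symm_apply_apply _, fun φ => AlgHom.ext fun g => σ.apply_symm_apply _⟩ :
        Equiv.Perm (G →ₐ[K] F))) fun σ₁ σ₂ h => ?_
  apply AlgEquiv.coe_algHom_injective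
  refine IntermediateField.adjoin_algHom_ext K ?_
  rintro _ ⟨⟨φ, i⟩, rfl⟩
  exact AlgHom.congr_fun (Equiv.congr_fun h (e.symm φ)) (b i)

end Groth.Agent.L26.SplitBound
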