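import Groth.Agent.L26.AV.TorsCard
import Groth.Agent.L26.JacRat.SplitBound
import Mathlib.RingTheory.RingHom.Etale
import Mathlib.AlgebraicGeometry.Morphisms.Etale

/-!
# Splitting the torsion of an abelian variety
-/

set_option autoImplicit false
set_option linter.style.haveILetI false
set_option backward.isDefEq.respectTransparency.types false

universe u

open CategoryTheory CategoryTheory.Limits MonoidalCategory CartesianMonoidalCategory AlgebraicGeometry

open scoped MonObj

noncomputable section

namespace Groth.Agent.L26.TorsSplit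

variable {k : Type u} [Field k] {A : Over (Spec (CommRingCat.of k))} [GrpObj A]
  [IsCommMonObj A] [IsProper A.hom] [GeometricallyIntegral A.hom]

/-- The torsion of invertible order becomes rational over a separable extension of bounded degree. -/
theorem exists_split_torsion {g : ℕ} (hg : topologicalKrullDim A.left = g) (N : ℕ) (hN : (N : k) ≠ 0) :
    ∃ (L : Type u) (_ : Field L) (_ : Algebra k L), FiniteDimensional k L ∧ Algebra.IsSeparable k L ∧
      Module.finrank k L ≤ (N ^ (2 * g)).factorial ∧
      Nat.card (AbDual.torsPts A N (Over.mk (Spec.map (CommRingCat.ofHom (algebraMap k L))))) = N ^ (2 * g) := by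
  have hN1 : 1 ≤ N := Nat.one_le_iff_ne_zero.2 fun h => hN (by rw [h, Nat.cast_zero])
  obtain ⟨_, _, _⟩ := Groth.Agent.AV.Isogeny.finite_etale_surjective (A := A) N hN
  let P := pullback (𝟙 A ^ N) η[A]
  have hsq : IsPullback (pullback.fst (𝟙 A ^ N) η[A]) (pullback.snd _ _) (𝟙 A ^ N) η[A] :=
    IsPullback.of_hasPullback _ _
  have hsql := hsq.map (Over.forget _)
  haveI : IsIso (𝟙_ (Over (Spec (CommRingCat.of k)))).hom := inferInstanceAs (IsIso (𝟙 _))
  haveI hPf : IsFinite (pullback.snd (𝟙 A ^ N) η[A]).left :=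
    MorphismProperty.of_isPullback hsql ‹IsFinite (𝟙 A ^ N).left›
  haveI : IsFinite P.hom := by
    rw [← Over.w (pullback.snd (𝟙 A ^ N) η[A])]
    infer_instance
  haveI : Etale P.hom := by
    rw [← Over.w (pullback.snd (𝟙 A ^ N) η[A])]
    exact (MorphismProperty.cancel_right_of_respectsIso @Etale _
      (𝟙_ (Over (Spec (CommRingCat.of k)))).hom).2
      (MorphismProperty.of_isPullback hsql ‹Etale (𝟙 A ^ N).left›)
  haveI : IsAffine P.left := isAffine_of_isAffineHom P.hom
  obtain ⟨φ, hφ⟩ := Spec.map_surjective (P.left.isoSpec.inv ≫ P.hom)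
  haveI : IsFinite (Spec.map φ) := hφ ▸ inferInstance
  haveI : Etale (Spec.map φ) := hφ ▸ inferInstance
  letI := φ.hom.toAlgebra
  haveI : Module.Finite k Γ(P.left, ⊤) := (IsFinite.SpecMap_iff φ).1 inferInstance
  haveI : Algebra.Etale k Γ(P.left, ⊤) := by
    have h := (HasRingHomProperty.Spec_iff (P := @Etale) (φ := φ)).1 inferInstance
    exact RingHom.etale_algebraMap.1 h
  haveI : Module.Flat k Γ(P.left, ⊤) := Module.Flat.of_free
  let s : Spec (CommRingCat.of k) := IsLocalRing.closedPoint k
  have hrank : Module.finrank k Γ(P.left, ⊤) = N ^ (2 * g) := by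
    refine Eq.trans ?_ (Groth.Agent.AV.Degree.finrank_pow hN1 hg (η[A].left s))
    haveI : Flat (𝟙 A ^ N).left := inferInstance
    have h := @Scheme.Hom.finrank_of_isPullback _ _ _ _ _ _ _ _ hsql
      (show Flat (𝟙 A ^ N).left from inferInstance) (show IsFinite (𝟙 A ^ N).left from inferInstance) s
    refine Eq.trans ?_ h
    have hP : P.hom.finrank s = Module.finrank k Γ(P.left, ⊤) := by
      rw [← Scheme.Hom.finrank_comp_left_of_isIso P.left.isoSpec.inv P.hom, ← hφ,
        show φ = CommRingCat.ofHom (algebraMap k Γ(P.left, ⊤)) from rfl,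
        Scheme.Hom.finrank_SpecMap_algebraMap, Module.rankAtStalk_eq_finrank_of_free]
      rfl
    rw [← hP, show P.hom = (pullback.snd (𝟙 A ^ N) η[A]).left from
      ((Over.w (pullback.snd (𝟙 A ^ N) η[A])).symm.trans (Category.comp_id _))]
    rfl
  obtain ⟨L, _, _, hfin, hsep, hdeg, hcard⟩ := Groth.Agent.L26.SplitBound.exists_split k Γ(P.left, ⊤)
  rw [hrank] at hdeg hcard
  refine ⟨L, inferInstance, inferInstance, hfin, hsep, hdeg, ?_⟩
  let T : Over (Spec (CommRingCat.of k)) := Over.mk (Spec.map (CommRingCat.ofHom (algebraMap k L)))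
  have hpts : Nat.card (T ⟶ P) = Nat.card (Γ(P.left, ⊤) →ₐ[k] L) := by
    have hT : ∀ a : T ⟶ P, φ ≫ Spec.preimage (a.left ≫ P.left.isoSpec.hom) =
        CommRingCat.ofHom (algebraMap k L) := fun a => Spec.map_injective (by
      rw [Spec.map_comp, Spec.map_preimage, hφ, Category.assoc, Iso.hom_inv_id_assoc]
      exact Over.w a)
    refine Nat.card_eq_of_bijective (fun a : T ⟶ P =>
      (⟨(Spec.preimage (a.left ≫ P.left.isoSpec.hom)).hom, fun r => congr($(hT a) r)⟩ :
        Γ(P.left, ⊤) →ₐ[k] L)) ⟨?_, fun ψ => ?_⟩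
    · intro a b h
      have h2 := congrArg Spec.map (CommRingCat.hom_ext (congrArg AlgHom.toRingHom h) :
        Spec.preimage (a.left ≫ P.left.isoSpec.hom) = Spec.preimage (b.left ≫ P.left.isoSpec.hom))
      rw [Spec.map_preimage, Spec.map_preimage] at h2
      exact Over.OverMorphism.ext ((cancel_mono P.left.isoSpec.hom).1 h2)
    · refine ⟨Over.homMk (Spec.map (CommRingCat.ofHom ψ.toRingHom) ≫ P.left.isoSpec.inv) ?_, AlgHom.ext fun b => ?_⟩
      · show (_ ≫ _) ≫ P.hom = Spec.map _
        rw [Category.assoc, ← hφ, ← Spec.map_comp]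
        congr 1
        exact CommRingCat.hom_ext ψ.comp_algebraMap
      · simp
  rw [← hcard, ← hpts]
  refine Nat.card_congr
    { toFun := fun a => pullback.lift a.1 (toUnit _) (by
        rw [MonObj.comp_pow, Category.comp_id, ← Hom.one_def]
        exact a.2)
      invFun := fun b => ⟨b ≫ pullback.fst (𝟙 A ^ N) η[A], by
        show (b ≫ pullback.fst (𝟙 A ^ N) η[A]) ^ N = 1
        rw [← Category.comp_id (b ≫ pullback.fst (𝟙 A ^ N) η[A]), ← MonObj.comp_pow, Category.assoc,
          pullback.condition, ← Category.assoc, Hom.one_def, toUnit_unique (b ≫ _) (toUnit _)]⟩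
      left_inv := fun a => Subtype.ext (pullback.lift_fst _ _ _)
      right_inv := fun b => pullback.hom_ext (pullback.lift_fst _ _ _) (toUnit_unique _ _) }

end Groth.Agent.L26.TorsSplit
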