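import Groth.Agent.L26.JacRat.TorsCount
import Groth.Agent.L26.JacRat.TorsSplit

/-!
# Torsion classes of a curve over an extension field
-/

set_option autoImplicit false
set_option linter.style.haveILetI false
set_option linter.unusedSectionVars false
set_option backward.isDefEq.respectTransparency false
set_option backward.isDefEq.respectTransparency.types false

universe u

open CategoryTheory CategoryTheory.Limits AlgebraicGeometry MonoidalCategory CartesianMonoidalCategory MonObj GrpObj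
open Groth.L25.HomScheme

noncomputable section

namespace Groth.Agent.L26.JacRat

open Groth.Agent.L26.PicRep Groth.Agent.L26.PicSm Groth.Agent.Elliptic
attribute [local instance] Groth.L08.Cube.clMonoid Groth.Agent.L26.PicSm.curveOver

/-- The torsion classes of a scheme. -/
def torsClasses (Y : Scheme.{u}) (n : ℕ) : Set (PicF.Cl Y) :=
  {c | ∃ M : Y.Modules, PicF.cl M = c ∧ PicF.IsInvertible M ∧
    Nonempty (CohB1.tensorPow M n ≅ Coh.structureModule Y)}

theorem mem_torsClasses_iff {Y : Scheme.{u}} {n : ℕ} {c : PicF.Cl Y} :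
    c ∈ torsClasses Y n ↔ PicF.IsInvertibleCl c ∧ c ^ n = 1 := by
  constructor
  · rintro ⟨M, rfl, hM, ⟨e⟩⟩
    exact ⟨⟨M, rfl, hM⟩, by rw [← Groth.L08.Cube.cl_tensorPow]; exact AbDualLib.cl_congr e⟩
  · rintro ⟨⟨M, rfl, hM⟩, h⟩
    exact ⟨M, rfl, hM, (PicGrp.cl_eq_cl_iff _ _).1 ((Groth.L08.Cube.cl_tensorPow M n).trans h)⟩

theorem card_torsClasses_of_iso {Y Y' : Scheme.{u}} (e : Y ⟶ Y') [IsIso e] (n : ℕ) :
    Nat.card (torsClasses Y' n) = Nat.card (torsClasses Y n) := by
  have key : ∀ {A B : Scheme.{u}} (v : A ⟶ B) {c : PicF.Cl B}, c ∈ torsClasses B n →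
      PicF.pullCl v c ∈ torsClasses A n := fun v c hc => by
    rw [mem_torsClasses_iff] at hc ⊢
    refine ⟨PicLoc.isInvertibleCl_pullCl v hc.1, ?_⟩
    show (Groth.L08.Cube.pullClHom v c) ^ n = 1
    rw [← map_pow, hc.2, map_one]
  exact Nat.card_congr
    { toFun := fun c => ⟨_, key e c.2⟩
      invFun := fun c => ⟨_, key (inv e) c.2⟩
      left_inv := fun c => Subtype.ext (by
        show PicF.pullCl (inv e) (PicF.pullCl e c.1) = c.1
        rw [← PicLoc.pullCl_comp, IsIso.inv_hom_id, PicLoc.pullCl_id])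
      right_inv := fun c => Subtype.ext (by
        show PicF.pullCl e (PicF.pullCl (inv e) c.1) = c.1
        rw [← PicLoc.pullCl_comp, IsIso.hom_inv_id, PicLoc.pullCl_id]) }

variable {k : Type u} [Field k] {X : Scheme.{u}} {f : X ⟶ Spec (CommRingCat.of k)} [IsProper f]
  [SmoothOfRelativeDimension 1 f] [GeometricallyConnected f]
  {σ : Spec (CommRingCat.of k) ⟶ X} {hσ : σ ≫ f = 𝟙 _}

/-- Torsion points over an extension field count torsion classes of the base change. -/
theorem card_torsPts_field {J : Over (Spec (CommRingCat.of k))} {ξ : (deg0Fam f σ hσ).obj J}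
    (hJ : (deg0Fam f σ hσ).IsRep J ξ) [IsProper J.hom] [GeometricallyIntegral J.hom] {n : ℕ} (hn : n ≠ 0)
    {K : Type u} [Field K] (τ : Spec (CommRingCat.of K) ⟶ Spec (CommRingCat.of k)) :
    letI := grpObjRep hJ
    haveI := isCommMonObj_of_isProper_of_geometricallyIntegral J
    Nat.card (torsClasses (PicF.XT f (Over.mk τ)) n) = Nat.card (AbDual.torsPts J n (Over.mk τ)) := by
  letI := grpObjRep hJ
  haveI := isCommMonObj_of_isProper_of_geometricallyIntegral J
  have pow_val : ∀ (a : Over.mk τ ⟶ J) (m : ℕ), valAt ξ (a ^ m) = valAt ξ a ^ m := fun a m => by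
    induction m with
    | zero => rw [pow_zero, pow_zero, valAt_one hJ]
    | succ m ih => rw [pow_succ, pow_succ, valAt_mul hJ, ih]
  have hmem : ∀ a : AbDual.torsPts J n (Over.mk τ),
      (valAt ξ a.1 : PicF.Cl (PicF.XT f (Over.mk τ))) ∈ torsClasses (PicF.XT f (Over.mk τ)) n := fun a =>
    mem_torsClasses_iff.2 ⟨(valAt_mem (ξ := ξ) a.1).1.1.1, by
      rw [← Units.val_pow_eq_pow_val, ← pow_val, show a.1 ^ n = 1 from a.2, valAt_one hJ, Units.val_one]⟩
  refine (Nat.card_congr (Equiv.ofBijective (fun a => ⟨_, hmem a⟩) ⟨fun a b h => ?_, fun c => ?_⟩)).symm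
  · exact Subtype.ext (valAt_inj hJ (Units.ext (congrArg Subtype.val h :)))
  · obtain ⟨c, hc⟩ := c
    obtain ⟨hci, hcn⟩ := mem_torsClasses_iff.1 hc
    obtain ⟨x, hx, hxc⟩ := exists_invU hci
    have hxn : x ^ n = 1 := Units.ext (by rw [Units.val_pow_eq_pow_val, hxc, hcn, Units.val_one])
    have hdeg : ∀ t, degU f (Over.mk τ) x t = 0 := fun t => by
      have h1 := degU_zpow hx (n : ℤ) t
      rw [zpow_natCast, hxn, degU_one] at h1
      exact (mul_eq_zero.1 h1.symm).resolve_left (by exact_mod_cast hn)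
    obtain ⟨a, ha, -⟩ := hJ (Over.mk τ) ⟨x, ⟨hx, invU_field_eq_one (map_mem_invU _ hx)⟩, hdeg⟩
    have hav : valAt ξ a = x := congrArg Subtype.val ha
    refine ⟨⟨a, valAt_inj hJ ?_⟩, Subtype.ext ?_⟩
    · show valAt ξ (a ^ n) = valAt ξ (1 : Over.mk τ ⟶ J)
      rw [pow_val, hav, hxn, valAt_one hJ]
    · show (valAt ξ a : PicF.Cl (PicF.XT f (Over.mk τ))) = c
      rw [hav, hxc]

end Groth.Agent.L26.JacRat
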