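import Groth.Agent.L26.PicRep.DivisorCl
import Groth.Agent.L26.PicSm.PointPic
import Groth.Agent.L02.Hilb.CurvePoints
import Groth.Agent.L03.BlowPt.OffExc
import Groth.Agent.L21.Curve.NormalConnected
import Mathlib.CategoryTheory.Monoidal.Cartesian.Over

/-!
# Tuples of points and their divisors
-/

set_option autoImplicit false
set_option linter.style.haveILetI false
set_option linter.unusedSectionVars false
set_option backward.isDefEq.respectTransparency false
set_option backward.isDefEq.respectTransparency.types false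

universe u

open CategoryTheory CategoryTheory.Limits AlgebraicGeometry MonoidalCategory CartesianMonoidalCategory

noncomputable section

namespace Groth.Agent.L26.JacRat

open Groth.Agent.Elliptic Groth.Agent.L26.PicRep
attribute [local instance] Groth.L08.Cube.clMonoid

variable {X S : Scheme.{u}} (f : X ⟶ S)

/-- The fibre powers. -/
def cp : ℕ → Over S
  | 0 => 𝟙_ (Over S)
  | n + 1 => cp n ⊗ Over.mk f

/-- The projections of the fibre powers. -/
def proj : ∀ n : ℕ, Fin n → (cp f n ⟶ Over.mk f)
  | 0 => Fin.elim0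
  | n + 1 => Fin.snoc (fun i => fst (cp f n) (Over.mk f) ≫ proj n i) (snd (cp f n) (Over.mk f))

variable {f} {T T' : Over S}

/-- The point with the given coordinates. -/
def tup : ∀ {n : ℕ}, (Fin n → (T ⟶ Over.mk f)) → (T ⟶ cp f n)
  | 0, _ => toUnit T
  | n + 1, a => lift (tup fun i => a i.castSucc) (a (Fin.last n))

theorem tup_proj : ∀ {n : ℕ} (a : Fin n → (T ⟶ Over.mk f)) (i : Fin n), tup a ≫ proj f n i = a i
  | 0, _, i => i.elim0
  | n + 1, a, i => by
    induction i using Fin.lastCases with
    | last => simp [tup, proj]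
    | cast j =>
      simp only [tup, proj, Fin.snoc_castSucc]
      rw [lift_fst_assoc, tup_proj]

theorem cp_hom_ext : ∀ {n : ℕ} {v w : T ⟶ cp f n}, (∀ i, v ≫ proj f n i = w ≫ proj f n i) → v = w
  | 0, v, w, _ => toUnit_unique v w
  | n + 1, v, w, h => by
    refine CartesianMonoidalCategory.hom_ext _ _ ?_ ?_
    · refine cp_hom_ext fun i => ?_
      have h1 := h i.castSucc
      simp only [proj, Fin.snoc_castSucc] at h1
      simpa only [Category.assoc] using h1
    · have h1 := h (Fin.last n)
      simpa only [proj, Fin.snoc_last] using h1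

section Geometry

variable [IsProper f] [SmoothOfRelativeDimension 1 f] [GeometricallyConnected f]

theorem isProper_cp : ∀ n : ℕ, IsProper (cp f n).hom
  | 0 => inferInstanceAs (IsProper (𝟙 S))
  | n + 1 => by
    haveI := isProper_cp n
    exact inferInstanceAs (IsProper (pullback.fst (cp f n).hom f ≫ (cp f n).hom))

theorem smooth_cp : ∀ n : ℕ, Smooth (cp f n).hom
  | 0 => inferInstanceAs (Smooth (𝟙 S))
  | n + 1 => by
    haveI := smooth_cp n
    haveI : Smooth f := SmoothOfRelativeDimension.smooth 1 f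
    exact inferInstanceAs (Smooth (pullback.fst (cp f n).hom f ≫ (cp f n).hom))

theorem geometricallyConnected_cp : ∀ n : ℕ, GeometricallyConnected (cp f n).hom
  | 0 => ⟨fun K _ y Y g q sq => by
      haveI : IsIso q := sq.isIso_snd_of_isIso (inferInstanceAs (IsIso (𝟙 S)))
      haveI : ConnectedSpace ↥(Spec (CommRingCat.of K)) := inferInstanceAs (ConnectedSpace (PrimeSpectrum K))
      exact (asIso q).hom.homeomorph.connectedSpace_iff.2 inferInstance⟩
  | n + 1 => by
    haveI := geometricallyConnected_cp n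
    haveI := smooth_cp (f := f) n
    haveI : Smooth f := SmoothOfRelativeDimension.smooth 1 f
    exact GeometricallyConnected.comp (pullback.fst (cp f n).hom f) (cp f n).hom

/-- The product of the graphs of a tuple. -/
def idT {n : ℕ} (a : Fin n → (T ⟶ Over.mk f)) : (PicF.XT f T).IdealSheafData := ∏ i, (sec (a i)).ker

theorem isFinLocFreeOfDeg_idT : ∀ {n : ℕ} (a : Fin n → (T ⟶ Over.mk f)),
    Mor2.IsFinLocFreeOfDeg n ((idT a).subschemeι ≫ PicF.XTproj f T)
  | 0, a => by
    rw [idT, Fin.prod_univ_zero]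
    exact Groth.L02.Hilb.isFinLocFreeOfDeg_top _
  | n + 1, a => by
    rw [idT, Fin.prod_univ_castSucc]
    exact Groth.L02.Hilb.isFinLocFreeOfDeg_mul f _ _
      (isFinLocFreeOfDeg_idT fun i => a i.castSucc)
      (Groth.L02.Hilb.isFinLocFreeOfDeg_secGraph f T (a (Fin.last n)).left (Over.w (a (Fin.last n))))

/-- The divisor of a tuple. -/
def divT {n : ℕ} (a : Fin n → (T ⟶ Over.mk f)) : HilbD.Obj f n T := ⟨idT a, isFinLocFreeOfDeg_idT a⟩

theorem comap_idT (q : T' ⟶ T) : ∀ {n : ℕ} (a : Fin n → (T ⟶ Over.mk f)),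
    (idT a).comap (PicF.XTmap f q) = idT fun i => q ≫ a i
  | 0, a => by
    rw [idT, idT, Fin.prod_univ_zero, Fin.prod_univ_zero]
    refine (Scheme.IdealSheafData.support_eq_bot_iff _).1 ?_
    rw [Scheme.IdealSheafData.support_comap]
    ext z
    simp [Scheme.IdealSheafData.one_eq_top]
  | n + 1, a => by
    rw [idT, idT, Fin.prod_univ_succ, Fin.prod_univ_succ, Groth.L22.Ideals.comap_mul]
    congr 1
    · haveI := isClosedImmersion_section (f := PicF.XTproj f T) (sec_proj (a 0))
      exact Groth.L02.Hilb.ker_section_comap (Groth.L02.Hilb.isPullback_XTmap f q) (sec (a 0)) (sec_proj _)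
        (sec (q ≫ a 0)) (sec_proj _) (sec_comp q (a 0))
    · exact comap_idT q fun i => a i.succ

theorem pullObj_divT (q : T' ⟶ T) {n : ℕ} (a : Fin n → (T ⟶ Over.mk f)) :
    Groth.L02.Hilb.pullObj f q (divT a) = divT fun i => q ≫ a i :=
  Subtype.ext ((Groth.L02.Hilb.pull_eq f q _).trans (comap_idT q a))

end Geometry

section Field

variable {k : Type u} [Field k] {X : Scheme.{u}} {f : X ⟶ Spec (CommRingCat.of k)} [IsProper f]
  [SmoothOfRelativeDimension 1 f] [GeometricallyConnected f]

theorem isIntegral_of_connected {Y : Scheme.{u}} (q : Y ⟶ Spec (CommRingCat.of k)) [IsProper q] [Smooth q]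
    [GeometricallyConnected q] : IsIntegral Y := by
  haveI : Subsingleton ↥(Spec (CommRingCat.of k)) := inferInstanceAs (Subsingleton (PrimeSpectrum k))
  haveI : ConnectedSpace ↥(Spec (CommRingCat.of k)) := inferInstanceAs (ConnectedSpace (PrimeSpectrum k))
  haveI : ConnectedSpace ↥Y := GeometricallyConnected.connectedSpace_of_subsingleton q
  letI : Y.Over (Spec (CommRingCat.of k)) := ⟨q⟩
  haveI : IsProper (Y ↘ Spec (CommRingCat.of k)) := ‹IsProper q›
  haveI := Groth.L21.RR.isNoetherian_of_proper (X := Y) k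
  exact Groth.L21.NormalTotal.isIntegral_of_connected fun y => Groth.L21.Smooth.isDomain_stalk q y

theorem isIntegral_cp (n : ℕ) : IsIntegral (cp f n).left :=
  haveI := isProper_cp (f := f) n
  haveI := smooth_cp (f := f) n
  haveI := geometricallyConnected_cp (f := f) n
  isIntegral_of_connected (cp f n).hom

theorem isIntegral_XT_cp (n : ℕ) : IsIntegral (PicF.XT f (cp f n)) := by
  haveI := isProper_cp (f := f) n
  haveI := smooth_cp (f := f) n
  haveI := geometricallyConnected_cp (f := f) n
  haveI : IsProper (PicF.XTproj f (cp f n)) := inferInstanceAs (IsProper (pullback.snd f _))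
  haveI := Groth.L02.Hilb.smooth_XTproj f (cp f n)
  haveI : Smooth (PicF.XTproj f (cp f n)) := SmoothOfRelativeDimension.smooth 1 _
  haveI : GeometricallyConnected (PicF.XTproj f (cp f n)) :=
    inferInstanceAs (GeometricallyConnected (pullback.snd f _))
  haveI : GeometricallyConnected (PicF.XTproj f (cp f n) ≫ (cp f n).hom) :=
    GeometricallyConnected.comp (PicF.XTproj f (cp f n)) (cp f n).hom
  exact isIntegral_of_connected (PicF.XTproj f (cp f n) ≫ (cp f n).hom)

theorem cl_idealMod_idT {T : Over (Spec (CommRingCat.of k))} [IsIntegral (PicF.XT f T)] :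
    ∀ {n : ℕ} (a : Fin n → (T ⟶ Over.mk f)),
      BlowUp.IsEffCartierIdeal (idT a) ∧
        PicF.cl (ClSub.idealMod (idT a)) = ((∏ i, uI (a i) : (PicF.Cl (PicF.XT f T))ˣ) : PicF.Cl (PicF.XT f T))
  | 0, a => by
    rw [idT, Fin.prod_univ_zero, Fin.prod_univ_zero, Units.val_one]
    obtain ⟨e⟩ := Groth.L03.BlowPt.nonempty_idealMod_one (X := PicF.XT f T)
    exact ⟨Groth.L22.Ideals.isEffCartier_top, Groth.Agent.AbDualLib.cl_congr e⟩
  | n + 1, a => by
    obtain ⟨h1, h2⟩ := cl_idealMod_idT fun i => a i.succ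
    rw [idT] at h1 h2
    have h0 : BlowUp.IsEffCartierIdeal (sec (a 0)).ker :=
      (Groth.Agent.L19.IdealInvertible.isEffCartier_iff _).1 (isInvertible_secIdeal (a 0))
    rw [idT, Fin.prod_univ_succ, Fin.prod_univ_succ]
    refine ⟨Groth.L22.Ideals.isEffCartier_mul h0 h1, ?_⟩
    obtain ⟨e⟩ := Groth.L03.BlowPt.nonempty_idealMod_mul h0 h1
    rw [Groth.Agent.AbDualLib.cl_congr e, Units.val_mul, ← h2, val_uI]
    rfl

/-- The class of the divisor of a tuple. -/
theorem uId_divT {T : Over (Spec (CommRingCat.of k))} {n : ℕ} (a : Fin n → (T ⟶ Over.mk f)) :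
    uId (divT a) = ∏ i, uI (a i) := by
  haveI := isIntegral_XT_cp (f := f) n
  have h : uId (divT (proj f n)) = ∏ i, uI (proj f n i) :=
    Units.ext ((val_uId _).trans (cl_idealMod_idT (proj f n)).2)
  have h2 := congrArg (mp f (tup a)) h
  rw [mp_uId, map_prod, pullObj_divT] at h2
  simp only [map_uI, tup_proj] at h2
  exact h2

end Field

end Groth.Agent.L26.JacRat
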